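import Cfsg.Agent.FourPrimes.One
import Cfsg.Agent.Core.Frattini

/-!
The one-prime case with a normal noncyclic abelian subgroup.
-/

set_option autoImplicit false
set_option linter.unusedSectionVars false

namespace Cfsg.Agent.FourPrimes

open Subgroup
open scoped commutatorElement Pointwise

universe u

variable {G : Type u} [Group G] [Finite G]

theorem mem_normalizer_zpowers {r : ℕ} (hr : r.Prime) {c g : G} (hc : orderOf c = r)
    (h : g * c * g⁻¹ ∈ zpowers c) : g ∈ normalizer (zpowers c : Set G) :=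
  Coprime.mem_normalizer_of_conj_smul_eq (by
    rw [Coprime.conj_smul_eq_map]
    exact mul_conj_mem_zpowers hr hc hc h)

theorem orderOf_conj (g x : G) : orderOf (g * x * g⁻¹) = orderOf x := by
  rw [← MulAut.conj_apply, ← MulEquiv.coe_toMonoidHom,
    orderOf_injective _ (MulAut.conj g).injective]

/-- The normaliser of `T` normalises the characteristic subgroups of `T`. -/
theorem normalizer_le_normalizer_char (T : Subgroup G) (K : Subgroup T) [hK : K.Characteristic] :
    normalizer (T : Set G) ≤ normalizer (K.map T.subtype : Set G) := by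
  intro g hg
  refine Coprime.mem_normalizer_of_conj_smul_eq ?_
  let e : MulAut T := T.normalizerMonoidHom ⟨g, hg⟩
  conv_rhs => rw [← (characteristic_iff_map_eq.mp hK e)]
  rw [Coprime.conj_smul_eq_map, map_map, map_map]
  congr 1

/-- A two-rank subgroup containing a given central element. -/
theorem exists_twoRank_mem {r : ℕ} (hr : r.Prime) {S : Subgroup G} {c : G} (hc : c ∈ S)
    (hcr : orderOf c = r) (hcen : ∀ y ∈ S, Commute c y) (hS : ∃ E : Subgroup G, E ≤ S ∧ TwoRank E r) :
    ∃ E : Subgroup G, E ≤ S ∧ c ∈ E ∧ TwoRank E r := by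
  rcases twoRank_or_unique hr hc hcr hcen with h | h
  · exact h
  · obtain ⟨E, hES, hE⟩ := hS
    refine absurd ?_ (hE.not_isCyclic hr)
    have hle : E ≤ zpowers c := fun y hy => by
      rcases eq_or_ne y 1 with rfl | hy1
      · exact one_mem _
      · exact h y (hES hy) (hE.orderOf_eq hr hy hy1)
    exact isCyclic_of_injective (inclusion hle) (inclusion_injective hle)

variable [Group.IsSolvable G]

namespace One

variable {p t u w : ℕ} {P H : Subgroup G}

/-- A normal noncyclic abelian `t`-subgroup, with `u` but not `w` dividing the order of its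
centraliser, gives a contradiction. -/
theorem abelian_core (h : One p t u w P H) {A : Subgroup G} [IsMulCommutative A] (hAH : A ≤ H)
    (hAt : IsPGroup t A) (hHA : H ≤ normalizer (A : Set G))
    (hA2 : ∃ E : Subgroup G, E ≤ A ∧ TwoRank E t)
    (hdu : ∃ x ∈ H, orderOf x = u ∧ ∀ l ∈ A, Commute x l)
    (hdw : ¬ ∃ x ∈ H, orderOf x = w ∧ ∀ l ∈ A, Commute x l) : False := by
  obtain ⟨ht, hu, hw⟩ := h.primes
  obtain ⟨htu, htw, huw⟩ := h.ne
  have := Fact.mk ht
  have := Fact.mk hu
  have := Fact.mk hw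
  obtain ⟨EA, hEA, hEA2⟩ := hA2
  set D := H ⊓ centralizer (A : Set G) with hD
  have hDmem : ∀ {e : G}, e ∈ D ↔ e ∈ H ∧ ∀ l ∈ A, Commute e l := fun {e} => by
    rw [hD, mem_inf, mem_centralizer_iff]
    exact ⟨fun ⟨h1, h2⟩ => ⟨h1, fun l hl => (h2 l hl).symm⟩, fun ⟨h1, h2⟩ => ⟨h1, fun l hl => (h2 l hl).symm⟩⟩
  have hDn : ∀ {g e : G}, g ∈ H → e ∈ D → g * e * g⁻¹ ∈ D := by
    intro g e hg he
    obtain ⟨he1, he2⟩ := hDmem.mp he
    refine hDmem.mpr ⟨H.mul_mem (H.mul_mem hg he1) (H.inv_mem hg), fun l hl => ?_⟩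
    have h1 : g⁻¹ * l * g ∈ A := by
      simpa using (mem_normalizer_iff.mp (hHA (H.inv_mem hg)) l).mp hl
    simpa [mul_assoc] using (Commute.conj_iff g).mpr (he2 _ h1)
  have hHD : H ≤ normalizer (D : Set G) := fun g hg => mem_normalizer_iff.mpr fun e =>
    ⟨hDn hg, fun he => by simpa [mul_assoc] using hDn (H.inv_mem hg) he⟩
  have hnfx : ∀ e ∈ D, orderOf e = u → ¬ Fix P e := fun e he heo =>
    h.act.not_fix_of_twoRank ht hu htu.symm (hDmem.mp he).1 heo (hEA.trans hAH) hEA2
      fun f hf => ((hDmem.mp he).2 f (hEA hf)).symm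
  have hmove : ∀ e ∈ H, orderOf e = w → Fix P e := fun e he heo => by
    refine h.act.move_abelian ht hw htw he heo hAH hAt (hHA he) ?_ fun z hz hz' => h.faith z (hAH hz) hz'
    by_contra hcon
    push Not at hcon
    exact hdw ⟨e, he, heo, hcon⟩
  have hno2 : ∀ E : Subgroup G, E ≤ D → ¬ TwoRank E u := fun E hE hE2 => by
    obtain ⟨f, hf, -, hfo, hfix⟩ := h.act.exists_fix hu (hE.trans inf_le_left) hE2
    exact hnfx f (hE hf) hfo hfix
  have hconjD : ∀ x ∈ D, ∀ y ∈ D, orderOf x = u → orderOf y = u →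
      ∃ k ∈ D, k * x * k⁻¹ ∈ zpowers y :=
    (twoRank_or_conj hu D).resolve_left fun ⟨E, hE, hE2⟩ => hno2 E hE hE2
  -- an element of order `u` in `D` inside a two-rank subgroup
  obtain ⟨x₁, hx₁D, hx₁, Eu₁, hEu₁H, hx₁E, hEu₁⟩ : ∃ x ∈ D, orderOf x = u ∧
      ∃ E : Subgroup G, E ≤ H ∧ x ∈ E ∧ TwoRank E u := by
    obtain ⟨E₀, hE₀H, hE₀⟩ := h.two.2.1
    obtain ⟨x, hxH, hxo, hxA⟩ := hdu
    have hxD : x ∈ D := hDmem.mpr ⟨hxH, hxA⟩
    obtain ⟨S, hS⟩ := (hE₀.isPGroup.comap_of_injective H.subtype H.subtype_injective :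
      IsPGroup u (E₀.subgroupOf H)).exists_le_sylow
    set S' := (S : Subgroup H).map H.subtype with hS'
    have hS'H : S' ≤ H := map_subtype_le _
    have hE₀S : E₀ ≤ S' := by
      rw [← map_subgroupOf_eq_of_le hE₀H]; exact map_mono hS
    obtain ⟨T, hT⟩ := (IsPGroup.of_card (p := u) (n := 1)
      (by rw [Nat.card_zpowers, orderOf_mk, hxo, pow_one]) :
      IsPGroup u (zpowers (⟨x, hxH⟩ : H))).exists_le_sylow
    obtain ⟨k, hk⟩ := MulAction.exists_smul_eq H T S
    have hkx : (k : G) * x * (k : G)⁻¹ ∈ S' ⊓ D := by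
      refine ⟨⟨k * ⟨x, hxH⟩ * k⁻¹, ?_, rfl⟩, hDn k.2 hxD⟩
      rw [← hk]
      change _ ∈ MulAut.conj k • (T : Subgroup H)
      exact mem_map_of_mem _ (hT (mem_zpowers _))
    have hne : S' ⊓ D ≠ ⊥ := fun hb => by
      rw [hb, mem_bot, conj_eq_one_iff] at hkx
      rw [hkx, orderOf_one] at hxo
      exact hu.ne_one hxo.symm
    have hnorm : S' ≤ normalizer ((S' ⊓ D : Subgroup G) : Set G) := fun g hg => by
      exact mem_normalizer_iff.mpr fun e =>
        ⟨fun he => ⟨(mem_normalizer_iff.mp (le_normalizer hg) e).mp he.1,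
            (mem_normalizer_iff.mp (hHD (hS'H hg)) e).mp he.2⟩,
          fun he => ⟨(mem_normalizer_iff.mp (le_normalizer hg) e).mpr he.1,
            (mem_normalizer_iff.mp (hHD (hS'H hg)) e).mpr he.2⟩⟩
    obtain ⟨c, hc, hco, hcc⟩ := exists_central_orderOf hu (S.2.map _) inf_le_left hnorm hne
    obtain ⟨E, hES, hcE, hE⟩ := exists_twoRank_mem hu hc.1 hco hcc ⟨E₀, hE₀S, hE₀⟩
    exact ⟨c, hc.2, hco, E, hES.trans hS'H, hcE, hE⟩
  -- a two-rank `w`-subgroup normalising a conjugate
  obtain ⟨Ew, hEwH, hEw⟩ := h.two.2.2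
  obtain ⟨d, hd, hEwx⟩ := exists_normalized_conj (w := w) hu (C := D) (M := zpowers x₁) hx₁D hx₁
    (zpowers_le.mpr hx₁D) le_normalizer (fun hdiv => by
      obtain ⟨y, hy⟩ := exists_prime_orderOf_dvd_card' (G := D) w
        (hdiv.trans (relIndex_dvd_card _ _))
      exact hdw ⟨y, (hDmem.mp y.2).1, by rw [orderOf_coe, hy], (hDmem.mp y.2).2⟩)
    hconjD hEw.isPGroup (hEwH.trans hHD)
  set x := d * x₁ * d⁻¹ with hxdef
  have hxD : x ∈ D := D.mul_mem (D.mul_mem hd hx₁D) (D.inv_mem hd)
  obtain ⟨hxH, hxA⟩ := hDmem.mp hxD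
  have hxo : orderOf x = u := by rw [hxdef, orderOf_conj, hx₁]
  set Eu := Eu₁.map (MulAut.conj d).toMonoidHom with hEudef
  have hEu : TwoRank Eu u := hEu₁.map d
  have hxEu : x ∈ Eu := ⟨x₁, hx₁E, rfl⟩
  have hEuH : Eu ≤ H := by
    rintro _ ⟨y, hy, rfl⟩
    exact H.mul_mem (H.mul_mem (hDmem.mp hd).1 (hEu₁H hy)) (H.inv_mem (hDmem.mp hd).1)
  have htriple : ∀ l ∈ A, ∀ e ∈ H, orderOf e = w → Commute e x → Commute e l → l = 1 := by
    intro l hl e he heo hex hel
    by_contra hl1
    obtain ⟨k, hk⟩ := exists_pow_orderOf ht hAt hl hl1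
    exact h.triple _ (pow_mem (hAH hl) k) x hxH e he hk hxo heo ((hxA l hl).symm.pow_left k)
      (hel.symm.pow_left k) hex.symm
  have hno2w : ∀ E : Subgroup G, E ≤ H → TwoRank E w → ¬ ∀ f ∈ E, Commute f x := by
    intro E hEH hE hc
    have hA1 : A ≠ ⊥ := fun hb => hEA2.not_isCyclic ht (by
      have := le_bot_iff.mp (hb ▸ hEA : EA ≤ ⊥)
      rw [this]; infer_instance)
    have hcop : w.Coprime (Nat.card A) := by
      obtain ⟨n, hn⟩ := hAt.exists_card_eq
      rw [hn]
      exact ((Nat.coprime_primes hw ht).mpr htw.symm).pow_right n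
    obtain ⟨f, hf, -, hfo, l, hl, hl1, hfl⟩ := exists_fixed hw hE (hEH.trans hHA) hA1 hcop
    exact hl1 (htriple l hl f (hEH hf) hfo (hc f hf) hfl)
  -- `w` divides `u - 1`
  have hwu : w < u := by
    by_contra hle
    refine hno2w Ew hEwH hEw fun f hf => ?_
    rcases eq_or_ne f 1 with rfl | hf1
    · exact Commute.one_left x
    · exact commute_of_not_dvd hu hw hxo (hEw.orderOf_eq hw hf hf1) (hEwx hf) (by omega)
  have hu2 : u ≠ 2 := fun h2 => by have := hw.two_le; omega
  obtain ⟨a₀, ha₀, -, ha₀o, ha₀x⟩ := exists_fixed_line hw hu hEw hxo hEwx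
  -- the Hall subgroup of the centraliser of `x`
  set C₁ := H ⊓ centralizer ({x} : Set G) with hC₁
  have hC₁mem : ∀ {e : G}, e ∈ C₁ ↔ e ∈ H ∧ Commute e x := fun {e} => by
    rw [hC₁, mem_inf, mem_centralizer_singleton_iff]; exact Iff.rfl
  have hEuC : Eu ≤ C₁ := fun e he => hC₁mem.mpr ⟨hEuH he, hEu.commute he hxEu⟩
  obtain ⟨M, hMC, hEuM, -, hMsupp, -, hMconj⟩ := h.exists_hall (C := C₁) inf_le_left hEuC (by
    rw [hEu.card_eq]
    exact fun hd => htu ((Nat.prime_dvd_prime_iff_eq ht hu).mp (ht.dvd_of_dvd_pow hd)))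
  obtain ⟨k, hk, haM⟩ := hMconj a₀ (hC₁mem.mpr ⟨hEwH ha₀, ha₀x⟩) (by
    rw [ha₀o]; exact fun hd => htw ((Nat.prime_dvd_prime_iff_eq ht hw).mp hd))
  set a := k * a₀ * k⁻¹ with hadef
  have hao : orderOf a = w := by rw [hadef, orderOf_conj, ha₀o]
  have hMH : M ≤ H := hMC.trans inf_le_left
  have hMx : ∀ e ∈ M, Commute e x := fun e he => (hC₁mem.mp (hMC he)).2
  have hxM : x ∈ M := hEuM hxEu
  -- no normal `w`-subgroup
  have hcore : core w M = ⊥ := by
    by_contra hne
    obtain ⟨c, hc, hco, hcc⟩ := exists_central_orderOf hw (isPGroup_core w M) le_rfl le_normalizer hne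
    rcases twoRank_or_unique hw hc hco hcc with ⟨E, hEc, -, hE⟩ | huniq
    · exact hno2w E ((hEc.trans (core_le w M)).trans hMH) hE
        fun f hf => hMx f (core_le w M (hEc hf))
    · refine h.act.not_fix_of_twoRank hu hw huw.symm (hMH (core_le w M hc)) hco hEuH hEu
        (fun f hf => ?_) (hmove c (hMH (core_le w M hc)) hco)
      rcases eq_or_ne f 1 with rfl | hf1
      · exact Commute.one_left c
      refine commute_of_not_dvd hw hu hco (hEu.orderOf_eq hu hf hf1)
        (mem_normalizer_zpowers hw hco (huniq _ ((mem_normalizer_iff.mp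
          (le_normalizer_core w M (hEuM hf)) c).mp hc) ?_)) hwu.le
      rw [orderOf_conj, hco]
  set U₁ := core u M with hU₁
  have hxU : x ∈ U₁ := centralizer_core_le hu hMsupp hcore hxM
    fun y hy => (hMx y (core_le u M hy)).symm
  have hU₁p : IsPGroup u U₁ := isPGroup_core u M
  have haU : ∃ y ∈ U₁, ¬ Commute a y := by
    by_contra hcon
    push Not at hcon
    obtain ⟨n, hn⟩ := hU₁p.exists_card_eq
    have := Subgroup.orderOf_dvd_natCard U₁ (centralizer_core_le hu hMsupp hcore haM hcon)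
    rw [hao, hn] at this
    exact huw ((Nat.prime_dvd_prime_iff_eq hw hu).mp (hw.dvd_of_dvd_pow this)).symm
  have haH : a ∈ H := hMH haM
  have hax : Commute a x := hMx a haM
  have hCa : ∀ y ∈ U₁, orderOf y = u → Commute a y → y ∈ zpowers x := by
    intro y hy hyo hay
    by_contra hne
    have hE := twoRank_of_pair hu hyo hxo (hMx y (core_le u M hy)) hne
    refine h.act.not_fix_of_twoRank hu hw huw.symm haH hao
      (sup_le (zpowers_le.mpr (hMH (core_le u M hy))) (zpowers_le.mpr hxH)) hE (fun f hf => ?_)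
      (hmove a haH hao)
    have hle : zpowers y ⊔ zpowers x ≤ centralizer ({a} : Set G) := sup_le
      (zpowers_le.mpr (mem_centralizer_singleton_iff.mpr hay.symm.eq))
      (zpowers_le.mpr (mem_centralizer_singleton_iff.mpr hax.symm.eq))
    exact mem_centralizer_singleton_iff.mp (hle hf)
  -- a minimal subgroup not centralised by `a`
  obtain ⟨T, ⟨hTU, haT, hTne⟩, hmin⟩ := wellFounded_lt.has_min
    {T : Subgroup G | T ≤ U₁ ∧ a ∈ normalizer (T : Set G) ∧ ∃ y ∈ T, ¬ Commute a y}
    ⟨U₁, le_rfl, le_normalizer_core u M haM, haU⟩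
  have hmin' : ∀ K : Subgroup G, K < T → a ∈ normalizer (K : Set G) → ∀ y ∈ K, Commute a y := by
    intro K hK haK
    by_contra hcon
    push Not at hcon
    exact hmin K ⟨hK.le.trans hTU, haK, hcon⟩ hK
  have hTp : IsPGroup u T := hU₁p.to_le hTU
  have haT' : zpowers a ≤ normalizer (T : Set G) := zpowers_le.mpr haT
  have hcopT : (Nat.card (zpowers a)).Coprime (Nat.card T) := by
    obtain ⟨n, hn⟩ := hTp.exists_card_eq
    rw [Nat.card_zpowers, hao, hn]
    exact ((Nat.coprime_primes hw hu).mpr huw.symm).pow_right n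
  have hTa : ⁅T, zpowers a⁆ = T := by
    refine le_antisymm (Coprime.commutator_le_of_le_normalizer haT') ?_
    by_contra hlt
    have hlt' : ⁅T, zpowers a⁆ < T := lt_of_le_not_ge (Coprime.commutator_le_of_le_normalizer haT') hlt
    have h1 := hmin' _ hlt' (normalizer_commutator_ge_right T (zpowers a) (mem_zpowers a))
    have h2 : ⁅⁅T, zpowers a⁆, zpowers a⁆ = ⊥ := by
      rw [commutator_eq_bot_iff_le_centralizer]
      intro y hy
      rw [FixedPointFree.centralizer_zpowers]
      exact mem_centralizer_singleton_iff.mpr (h1 y hy).symm.eq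
    rw [Coprime.commutator_commutator_eq haT' hcopT (Or.inl
      (Group.isSolvable_of_comm fun a b => IsMulCommutative.is_comm.comm a b))] at h2
    obtain ⟨y, hy, hay⟩ := hTne
    exact hay (commutatorElement_eq_one_iff_commute.mp
      (mem_bot.mp (h2 ▸ commutator_mem_commutator hy (mem_zpowers a)))).symm
  set Φ := (frattini T).map T.subtype with hΦ
  have hT1 : Nontrivial T := (nontrivial_iff_ne_bot T).mpr fun hb => by
    obtain ⟨y, hy, hay⟩ := hTne
    rw [hb, mem_bot] at hy
    exact hay (hy ▸ Commute.one_right a)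
  have hΦlt : Φ < T := by
    refine lt_of_le_of_ne (map_subtype_le _) fun heq => ?_
    have h1 : frattini T = ⊤ := by
      rw [eq_top_iff]
      intro y _
      obtain ⟨z, hz, hzy⟩ := heq.ge y.2
      exact Subtype.ext hzy ▸ hz
    obtain ⟨K, hK, -⟩ := (eq_top_or_exists_le_coatom (⊥ : Subgroup T)).resolve_left bot_ne_top
    exact hK.1 (top_le_iff.mp (h1 ▸ frattini_le_coatom hK))
  have haΦ : a ∈ normalizer (Φ : Set G) :=
    normalizer_le_normalizer_char T (frattini T) haT
  have hΦa : ∀ y ∈ Φ, Commute a y := hmin' Φ hΦlt haΦ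
  have hΦc : ∀ z ∈ Φ, ∀ y ∈ T, Commute z y := by
    have hTn : T ≤ normalizer (Φ : Set G) :=
      le_normalizer.trans (normalizer_le_normalizer_char T (frattini T))
    have h0 : ⁅zpowers a, Φ⁆ = ⊥ := by
      rw [commutator_eq_bot_iff_le_centralizer, zpowers_le, mem_centralizer_iff]
      exact fun y hy => (hΦa y hy).symm.eq
    have h1 : ⁅⁅zpowers a, Φ⁆, T⁆ = ⊥ := by rw [h0, commutator_bot_left]
    have h2 : ⁅⁅Φ, T⁆, zpowers a⁆ = ⊥ := by
      refine le_bot_iff.mp ((commutator_mono (Coprime.commutator_le_of_le_normalizer hTn)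
        le_rfl).trans ?_)
      rw [le_bot_iff, commutator_eq_bot_iff_le_centralizer]
      intro y hy
      rw [FixedPointFree.centralizer_zpowers]
      exact mem_centralizer_singleton_iff.mpr (hΦa y hy).symm.eq
    have h3 : ⁅⁅T, zpowers a⁆, Φ⁆ = ⊥ := commutator_commutator_eq_bot_of_rotate h1 h2
    rw [hTa, commutator_eq_bot_iff_le_centralizer] at h3
    exact fun z hz y hy => mem_centralizer_iff.mp (h3 hy) z hz
  have hTn' : Group.IsNilpotent T := hTp.isNilpotent
  have hcomm : ∀ y ∈ T, ∀ z ∈ T, ⁅y, z⁆ ∈ Φ := fun y hy z hz =>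
    ⟨⁅(⟨y, hy⟩ : T), ⟨z, hz⟩⁆, Core.commutator_le_frattini
      (commutator_mem_commutator (mem_top _) (mem_top _)), rfl⟩
  have hpow : ∀ y ∈ T, y ^ u ∈ Φ := fun y hy =>
    ⟨(⟨y, hy⟩ : T) ^ u, Core.pow_mem_frattini hTp _, rfl⟩
  have hccen : commutator T ≤ center T := fun y hy => mem_center_iff.mpr fun z => Subtype.ext
    (hΦc _ ⟨y, Core.commutator_le_frattini hy, rfl⟩ z z.2).symm.eq
  have hcpow : ∀ y z : T, ⁅y, z⁆ ^ u = 1 := fun y z => by
    rw [← Fusion.commutatorElement_pow_left_of_le_center hccen, commutatorElement_eq_one_iff_commute]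
    exact Subtype.ext (hΦc _ (hpow y y.2) z z.2).eq
  have hexp : ∀ y ∈ T, y ^ u = 1 := by
    have hgen : T ≤ (closure {z : T | z ^ u = 1}).map T.subtype := by
      conv_lhs => rw [← hTa]
      rw [commutator_le]
      intro y hy b hb
      have hbN : b ∈ normalizer (T : Set G) := haT' hb
      set z := b * y⁻¹ * b⁻¹ with hz
      have hzT : z ∈ T := (mem_normalizer_iff.mp hbN _).mp (T.inv_mem hy)
      have hzu : z ^ u = (y ^ u)⁻¹ := by
        rw [hz, conj_pow, inv_pow]
        have h1 : Commute b ((y ^ u)⁻¹) := by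
          obtain ⟨i, rfl⟩ := mem_zpowers_iff.mp hb
          exact ((hΦa _ (hpow y hy)).zpow_left i).inv_right
        rw [h1.eq, mul_inv_cancel_right]
      refine ⟨⟨y, hy⟩ * ⟨z, hzT⟩, subset_closure ?_, ?_⟩
      · have hc := mem_center_iff.mp
          (hccen (commutator_mem_commutator (mem_top (⟨z, hzT⟩ : T)) (mem_top (⟨y, hy⟩ : T))))
        show (_ * _) ^ u = 1
        obtain ⟨m, hm⟩ : u ∣ u.choose 2 :=
          hu.dvd_choose_self two_ne_zero (lt_of_le_of_ne hu.two_le (Ne.symm hu2))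
        rw [Fusion.mul_pow_of_commute_commutator (hc _).symm (hc _).symm, hm, pow_mul, hcpow,
          one_pow, mul_one]
        refine Subtype.ext ?_
        change y ^ u * z ^ u = 1
        rw [hzu, mul_inv_cancel]
      · change y * z = ⁅y, b⁆
        rw [hz, commutatorElement_def]; group
    intro y hy
    obtain ⟨z, hz, rfl⟩ := hgen hy
    exact congrArg Subtype.val (Fusion.pow_prime_eq_one_of_mem_closure hu2 hccen hz)
  have hfT : ∀ y ∈ T, Commute a y → y ∈ zpowers x := by
    intro y hy hay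
    rcases eq_or_ne y 1 with rfl | hy1
    · exact one_mem _
    exact hCa y (hTU hy) (orderOf_eq_prime (hexp y hy) hy1) hay
  have hfA : ∀ l ∈ A, Commute a l → l ∈ zpowers x := fun l hl hal => by
    rw [htriple l hl a haH hao hax hal]; exact one_mem _
  have hTM : T ≤ M := hTU.trans (core_le u M)
  have hcopA : (Nat.card T).Coprime (Nat.card A) := by
    obtain ⟨n, hn⟩ := hTp.exists_card_eq
    obtain ⟨m, hm⟩ := hAt.exists_card_eq
    rw [hn, hm]
    exact (((Nat.coprime_primes hu ht).mpr htu.symm).pow_left n).pow_right m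
  have hnd : ∀ {r : ℕ} {X : Subgroup G}, r.Prime → r ≠ w → IsPGroup r X → ¬ w ∣ Nat.card X := by
    intro r X hr hrw hX hd
    have := Fact.mk hr
    obtain ⟨n, hn⟩ := hX.exists_card_eq
    exact hrw ((Nat.prime_dvd_prime_iff_eq hw hr).mp (hw.dvd_of_dvd_pow (hn ▸ hd))).symm
  have key := commutator_mem_of_fpf hw (z := x) hao (fun l hl => (hxA l hl).symm)
    (fun y hy => hMx y (hTM hy)) hax (hHA haH) haT ((hTM.trans hMH).trans hHA)
    (hnd ht htw hAt) (hnd hu huw hTp) hcopA hfA hfT
    (fun l hl l' hl' => by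
      rw [commutatorElement_eq_one_iff_commute.mpr (setLike_mul_comm hl hl')]
      exact one_mem _)
  have hTD : T ≤ D := fun y hy => hDmem.mpr ⟨hMH (hTM hy), fun l hl => by
    refine commutatorElement_eq_one_iff_commute.mp (mem_bot.mp ?_)
    have hd : zpowers x ⊓ A = ⊥ := inf_eq_bot_of_coprime (by
      obtain ⟨m, hm⟩ := hAt.exists_card_eq
      rw [Nat.card_zpowers, hxo, hm]
      exact ((Nat.coprime_primes hu ht).mpr htu.symm).pow_right m)
    rw [← hd]
    refine ⟨key y hy l hl, ?_⟩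
    rw [commutatorElement_def]
    exact A.mul_mem ((mem_normalizer_iff.mp (hHA (hMH (hTM hy))) l).mp hl) (A.inv_mem hl)⟩
  obtain ⟨y, hy, hay⟩ := hTne
  have hy1 : y ≠ 1 := fun h1 => hay (h1 ▸ Commute.one_right a)
  have hyo : orderOf y = u := orderOf_eq_prime (hexp y hy) hy1
  by_cases hyx : y ∈ zpowers x
  · obtain ⟨i, rfl⟩ := mem_zpowers_iff.mp hyx
    exact hay (hax.zpow_right i)
  · exact hno2 _ (sup_le (zpowers_le.mpr (hTD hy)) (zpowers_le.mpr hxD))
      (twoRank_of_pair hu hyo hxo (hMx y (hTM hy)) hyx)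

/-- No normal noncyclic abelian `t`-subgroup. -/
theorem abelian_false (h : One p t u w P H) {A : Subgroup G} [IsMulCommutative A] (hAH : A ≤ H)
    (hAt : IsPGroup t A) (hHA : H ≤ normalizer (A : Set G))
    (hA2 : ∃ E : Subgroup G, E ≤ A ∧ TwoRank E t) : False := by
  obtain ⟨ht, hu, hw⟩ := h.primes
  obtain ⟨htu, htw, huw⟩ := h.ne
  obtain ⟨EA, hEA, hEA2⟩ := hA2
  set D := H ⊓ centralizer (A : Set G) with hD
  have hmem : ∀ {e : G}, e ∈ D → e ∈ H ∧ ∀ l ∈ A, Commute e l := fun {e} he =>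
    ⟨he.1, fun l hl => (mem_centralizer_iff.mp he.2 l hl).symm⟩
  have hA1 : ∃ l ∈ A, orderOf l = t := by
    obtain ⟨f, hf, hf1, hfo, -⟩ := h.act.exists_fix ht (hEA.trans hAH) hEA2
    exact ⟨f, hEA hf, hfo⟩
  obtain ⟨l₀, hl₀, hl₀o⟩ := hA1
  by_cases hdu : ∃ x ∈ H, orderOf x = u ∧ ∀ l ∈ A, Commute x l
  · by_cases hdw : ∃ x ∈ H, orderOf x = w ∧ ∀ l ∈ A, Commute x l
    · obtain ⟨x, hx, hxo, hxA⟩ := hdu
      obtain ⟨y, hy, hyo, hyA⟩ := hdw
      have hin : ∀ {e : G}, e ∈ H → (∀ l ∈ A, Commute e l) → e ∈ D := fun he hc =>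
        ⟨he, mem_centralizer_iff.mpr fun l hl => (hc l hl).symm.eq⟩
      have hno : ∀ a ∈ D, ∀ b ∈ D, orderOf a = u → orderOf b = w → ¬ Commute a b :=
        fun a ha b hb hao hbo hab => h.triple l₀ (hAH hl₀) a ha.1 b hb.1 hl₀o hao hbo
          ((hmem ha).2 l₀ hl₀).symm ((hmem hb).2 l₀ hl₀).symm hab
      obtain ⟨M, hMD, hxM, -, hMsupp, -, hMconj⟩ := h.exists_hall (C := D) inf_le_left
        (zpowers_le.mpr (hin hx hxA)) (by
          rw [Nat.card_zpowers, hxo]
          exact fun hd => htu ((Nat.prime_dvd_prime_iff_eq ht hu).mp hd))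
      obtain ⟨d, -, hyM⟩ := hMconj y (hin hy hyA) (by
        rw [hyo]; exact fun hd => htw ((Nat.prime_dvd_prime_iff_eq ht hw).mp hd))
      exact h.kernel_false (hMD.trans inf_le_left) hMsupp
        (fun a ha b hb => hno a (hMD ha) b (hMD hb))
        (fun e he heo => h.act.not_fix_of_twoRank ht hu htu.symm (hmem (hMD he)).1 heo
          (hEA.trans hAH) hEA2 fun f hf => ((hmem (hMD he)).2 f (hEA hf)).symm)
        (fun e he heo => h.act.not_fix_of_twoRank ht hw htw.symm (hmem (hMD he)).1 heo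
          (hEA.trans hAH) hEA2 fun f hf => ((hmem (hMD he)).2 f (hEA hf)).symm)
        (hxM (mem_zpowers x)) hxo hyM (by rw [orderOf_conj, hyo])
    · exact h.abelian_core hAH hAt hHA ⟨EA, hEA, hEA2⟩ hdu hdw
  · by_cases hdw : ∃ x ∈ H, orderOf x = w ∧ ∀ l ∈ A, Commute x l
    · exact h.swap.abelian_core hAH hAt hHA ⟨EA, hEA, hEA2⟩ hdw hdu
    -- both elements of a commuting pair act fixed-point-freely on `A`
    obtain ⟨a, ha, b, hb, hao, hbo, hab⟩ := h.pairs.2.2
    have hmove : ∀ {r : ℕ} {e : G}, r.Prime → t ≠ r → e ∈ H → orderOf e = r →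
        (¬ ∃ x ∈ H, orderOf x = r ∧ ∀ l ∈ A, Commute x l) → Fix P e := fun {r e} hr htr he heo hno => by
      refine h.act.move_abelian ht hr htr he heo hAH hAt (hHA he) ?_ fun z hz hz' => h.faith z (hAH hz) hz'
      by_contra hcon
      push Not at hcon
      exact hno ⟨e, he, heo, hcon⟩
    have hfa := hmove hu htu ha hao hdu
    have hfb := hmove hw htw hb hbo hdw
    -- each fixes no point of `A`
    have hfpf : ∀ {r s : ℕ} {e f : G}, r.Prime → s.Prime → r ≠ s → t ≠ r → t ≠ s → e ∈ H → f ∈ H →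
        orderOf e = r → orderOf f = s → Commute e f → Fix P e →
        (∀ x ∈ H, orderOf x = t → Commute x e → Commute x f → False) →
        ∀ l ∈ A, Commute e l → l = 1 := by
      intro r s e f hr hs hrs htr hts he hf heo hfo hef hfe htri l hl hel
      set X := A ⊓ centralizer ({e} : Set G) with hX
      set W := P ⊓ centralizer ({e} : Set G) with hW
      have hfC : f ∈ normalizer (centralizer ({e} : Set G) : Set G) :=
        le_normalizer (mem_centralizer_singleton_iff.mpr hef.symm.eq)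
      have hfX : f ∈ normalizer (X : Set G) := mem_normalizer_iff.mpr fun y => by
        rw [hX, mem_inf, mem_inf, ← mem_normalizer_iff.mp (hHA hf) y, ← mem_normalizer_iff.mp hfC y]
      have hfW : f ∈ normalizer (W : Set G) := mem_normalizer_iff.mpr fun y => by
        rw [hW, mem_inf, mem_inf, ← mem_normalizer_iff.mp (h.act.norm hf) y,
          ← mem_normalizer_iff.mp hfC y]
      have hXW : X ≤ normalizer (W : Set G) := fun y hy => mem_normalizer_iff.mpr fun v => by
        rw [hW, mem_inf, mem_inf, ← mem_normalizer_iff.mp (h.act.norm (hAH hy.1)) v,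
          ← mem_normalizer_iff.mp (le_normalizer hy.2) v]
      have := Fact.mk ht
      have hcen := h.act.fpf_centralizes (h.act.pgroup.to_le inf_le_left) ht hs hfo
        (inf_le_left.trans hAH) (hAt.to_le inf_le_left) hXW hfW hfX (fun y hy hfy => by
          by_contra hy1
          obtain ⟨k, hk⟩ := exists_pow_orderOf ht hAt hy.1 hy1
          exact htri _ (pow_mem (hAH hy.1) k) hk
            ((show Commute y e from mem_centralizer_singleton_iff.mp hy.2).pow_left k)
            (hfy.symm.pow_left k))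
        (fun v hv hfv => h.act.free e he f hf (heo ▸ hr) (hfo ▸ hs) (by rw [heo, hfo]; exact hrs)
          hef v hv.1 (show Commute v e from mem_centralizer_singleton_iff.mp hv.2).symm hfv)
      by_contra hl1
      obtain ⟨k, hk⟩ := exists_pow_orderOf ht hAt hl hl1
      obtain ⟨v, hv, hv1, hev⟩ := hfe
      refine hv1 (h.act.free e he _ (pow_mem (hAH hl) k) (heo ▸ hr) (hk ▸ ht)
        (by rw [heo, hk]; exact htr.symm) (hel.pow_right k) v hv hev ?_)
      exact (hcen l ⟨hl, mem_centralizer_singleton_iff.mpr hel.symm.eq⟩ v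
        ⟨hv, mem_centralizer_singleton_iff.mpr hev.symm.eq⟩).pow_left k
    have hfa' := hfpf hu hw huw htu htw ha hb hao hbo hab hfa fun x hx hxo hxa hxb =>
      h.triple x hx a ha b hb hxo hao hbo hxa hxb hab
    have hfb' := hfpf hw hu huw.symm htw htu hb ha hbo hao hab.symm hfb fun x hx hxo hxb hxa =>
      h.triple x hx a ha b hb hxo hao hbo hxa hxb hab
    set E := zpowers (a * b) with hE
    have hord : orderOf (a * b) = u * w := by
      rw [hab.orderOf_mul_eq_mul_orderOf_of_coprime (by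
        rw [hao, hbo]; exact (Nat.coprime_primes hu hw).mpr huw), hao, hbo]
    have hEH : E ≤ H := zpowers_le.mpr (H.mul_mem ha hb)
    have hfree : ∀ e ∈ E, e ≠ 1 → ∀ l ∈ A, e * l = l * e → l = 1 := by
      intro e he he1 l hl hel
      obtain ⟨i, rfl⟩ := mem_powers_iff_mem_zpowers.mpr he
      simp only at he1 hel
      by_cases hui : u ∣ i
      · have hwi : ¬ w ∣ i := fun hwi => he1 (orderOf_dvd_iff_pow_eq_one.mp (by
          rw [hord]; exact (Nat.Coprime.mul_dvd_of_dvd_of_dvd ((Nat.coprime_primes hu hw).mpr huw) hui hwi)))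
        have h1 : (a * b) ^ i = b ^ i := by
          obtain ⟨j, rfl⟩ := hui
          rw [hab.mul_pow, pow_mul a, ← hao, pow_orderOf_eq_one, one_pow, one_mul]
        rw [h1] at hel
        obtain ⟨m, hm⟩ := exists_pow_eq_self_of_coprime (x := b) (n := i)
          (by rw [hbo]; exact (hw.coprime_iff_not_dvd.mpr hwi).symm)
        exact hfb' l hl (hm ▸ (show Commute (b ^ i) l from hel).pow_left m)
      · obtain ⟨m, hm⟩ := exists_pow_eq_self_of_coprime (x := a) (n := i * w)
          (by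
            rw [hao]
            exact Nat.Coprime.mul_left ((hu.coprime_iff_not_dvd.mpr hui).symm)
              ((Nat.coprime_primes hw hu).mpr huw.symm))
        have h1 : ((a * b) ^ i) ^ w = a ^ (i * w) := by
          rw [← pow_mul, hab.mul_pow, mul_comm i w, pow_mul b, ← hbo, pow_orderOf_eq_one, one_pow,
            mul_one]
        refine hfa' l hl (hm ▸ ?_)
        exact (h1 ▸ (show Commute ((a * b) ^ i) l from hel).pow_left w : Commute _ l).pow_left m
    have hcopAE : A ⊓ E = ⊥ := inf_eq_bot_of_coprime (by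
      have := Fact.mk ht
      obtain ⟨n, hn⟩ := hAt.exists_card_eq
      rw [hn, Nat.card_zpowers, hord]
      exact (Nat.Coprime.mul_right ((Nat.coprime_primes ht hu).mpr htu)
        ((Nat.coprime_primes ht hw).mpr htw)).pow_left n)
    have hsupH : A ⊔ E ≤ H := sup_le hAH hEH
    have hform := WielandtFixed.order_formula _ G A E P rfl hcopAE
      (fun e he l hl => (mem_normalizer_iff.mp (hHA (hEH he)) l).mp hl) hfree
      (fun y hy v hv => (mem_normalizer_iff.mp (h.act.norm (hsupH hy)) v).mp hv)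
      inferInstance (h.act.coprime hsupH).symm
    have hPE : WielandtFixed.fixCard P E = 1 := by
      refine card_eq_one.mpr (le_bot_iff.mp fun v hv => mem_bot.mpr ?_)
      have hc : Commute (a * b) v := mem_centralizer_iff.mp hv.2 _ (mem_zpowers _)
      obtain ⟨m, hm⟩ := exists_pow_eq_self_of_coprime (x := a) (n := w)
        (by rw [hao]; exact (Nat.coprime_primes hw hu).mpr huw.symm)
      obtain ⟨m', hm'⟩ := exists_pow_eq_self_of_coprime (x := b) (n := u)
        (by rw [hbo]; exact (Nat.coprime_primes hu hw).mpr huw)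
      refine h.act.free a ha b hb (hao ▸ hu) (hbo ▸ hw) (by rw [hao, hbo]; exact huw) hab v hv.1 ?_ ?_
      · have h1 : (a * b) ^ w = a ^ w := by
          rw [hab.mul_pow, ← hbo, pow_orderOf_eq_one, mul_one]
        exact hm ▸ (h1 ▸ hc.pow_left w : Commute (a ^ w) v).pow_left m
      · have h1 : (a * b) ^ u = b ^ u := by
          rw [hab.mul_pow, ← hao, pow_orderOf_eq_one, one_mul]
        exact hm' ▸ (h1 ▸ hc.pow_left u : Commute (b ^ u) v).pow_left m'
    have hPS : WielandtFixed.fixCard P (A ⊔ E) = 1 := by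
      refine card_eq_one.mpr (le_bot_iff.mp ?_)
      rw [← card_eq_one.mp hPE]
      exact inf_le_inf_left _ (centralizer_le (SetLike.coe_subset_coe.mpr le_sup_right))
    rw [hPS, hPE, one_pow, one_mul, one_mul] at hform
    have hle : P ⊓ centralizer (A : Set G) = P := eq_of_le_of_card_ge inf_le_left hform.le
    have := h.faith l₀ (hAH hl₀) fun v hv => mem_centralizer_iff.mp (hle.ge hv).2 l₀ hl₀
    rw [this, orderOf_one] at hl₀o
    exact ht.ne_one hl₀o.symm

end One

end Cfsg.Agent.FourPrimes
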