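import Cfsg.Agent.FourPrimes.Tools
import Cfsg.Agent.WielandtFixed.Main

/-!
A group `H` acting coprimely on a `p`-group `P` such that commuting elements of distinct prime
orders have no common fixed point.
-/

set_option autoImplicit false
set_option linter.unusedSectionVars false

namespace Cfsg.Agent.FourPrimes

open Subgroup
open scoped commutatorElement

universe u

variable {G : Type u} [Group G] [Finite G] [Group.IsSolvable G]

/-- `H` acts on the `p`-group `P`, and commuting elements of distinct prime orders have no common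
fixed point. -/
structure Act (p : ℕ) (P H : Subgroup G) : Prop where
  prime : p.Prime
  pgroup : IsPGroup p P
  ne : P ≠ ⊥
  norm : H ≤ normalizer (P : Set G)
  cop : ¬ p ∣ Nat.card H
  free : ∀ x ∈ H, ∀ y ∈ H, (orderOf x).Prime → (orderOf y).Prime → orderOf x ≠ orderOf y →
    Commute x y → ∀ v ∈ P, Commute x v → Commute y v → v = 1

/-- `g` fixes a nontrivial element of `P`. -/
def Fix (P : Subgroup G) (g : G) : Prop := ∃ v ∈ P, v ≠ 1 ∧ Commute g v

theorem fix_conj {P : Subgroup G} {g c : G} (hc : c ∈ normalizer (P : Set G)) (h : Fix P g) :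
    Fix P (c * g * c⁻¹) := by
  obtain ⟨v, hv, hv1, hgv⟩ := h
  refine ⟨c * v * c⁻¹, (mem_normalizer_iff.mp hc v).mp hv, fun h => hv1 ?_, ?_⟩
  · exact conj_eq_one_iff.mp h
  · exact Commute.conj_iff c |>.mpr hgv

theorem fix_pow {P : Subgroup G} {g : G} (h : Fix P g) (k : ℕ) : Fix P (g ^ k) := by
  obtain ⟨v, hv, hv1, hgv⟩ := h
  exact ⟨v, hv, hv1, hgv.pow_left k⟩

namespace Act

variable {p : ℕ} {P H : Subgroup G}

theorem coprime (ha : Act p P H) {X : Subgroup G} (hX : X ≤ H) :
    (Nat.card X).Coprime (Nat.card P) := by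
  have := Fact.mk ha.prime
  obtain ⟨n, hn⟩ := ha.pgroup.exists_card_eq
  rw [hn]
  exact Nat.Coprime.pow_right n (Nat.Coprime.symm
    (ha.prime.coprime_iff_not_dvd.mpr fun h => ha.cop (h.trans (card_dvd_of_le hX))))

theorem ne_p (ha : Act p P H) {x : G} (hx : x ∈ H) {r : ℕ} (hr : orderOf x = r) : r ≠ p :=
  fun h => ha.cop (h ▸ hr ▸ Subgroup.orderOf_dvd_natCard H hx)

/-- An element of prime order which is fixed-point-free on a `p`-subgroup `V` and on a subgroup `X`
forces `X` to centralise `V`. -/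
theorem fpf_centralizes (ha : Act p P H) {V : Subgroup G} (hV : IsPGroup p V) {t w : ℕ}
    (ht : t.Prime) (hw : w.Prime) {g : G} (hg : orderOf g = w) {X : Subgroup G} (hXH : X ≤ H)
    (hXt : IsPGroup t X) (hXV : X ≤ normalizer (V : Set G)) (hgV : g ∈ normalizer (V : Set G))
    (hgX : g ∈ normalizer (X : Set G)) (hfX : ∀ x ∈ X, Commute g x → x = 1)
    (hfV : ∀ v ∈ V, Commute g v → v = 1) : ∀ x ∈ X, ∀ v ∈ V, Commute x v := by
  rcases eq_or_ne X ⊥ with rfl | hX1
  · rintro x hx v -
    rw [mem_bot.mp hx]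
    exact Commute.one_left v
  have := Fact.mk ht
  have htp : t ≠ p := fun h => ha.cop (h ▸ ((hXt.card_eq_or_dvd).resolve_left
    fun h => hX1 (card_eq_one.mp h)).trans (card_dvd_of_le hXH))
  have hc : g ^ w = 1 := hg ▸ pow_orderOf_eq_one g
  have fpf : ∀ Y : Subgroup G, (∀ y ∈ Y, Commute g y → y = 1) → Y ⊓ centralizer {g} = ⊥ :=
    fun Y hY => le_bot_iff.mp fun y hy => mem_bot.mpr
      (hY y hy.1 (mem_centralizer_singleton_iff.mp hy.2).symm)
  have := Fact.mk ha.prime
  have hd : V ⊓ X = ⊥ := disjoint_iff.mp (IsPGroup.disjoint_of_ne p t htp.symm V X hV hXt)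
  have hfix := FixedPointFree.fixed_sup_eq_bot hd hXV hgV hgX (fpf V hfV) (fpf X hfX)
  have hcL : g ∈ normalizer ((V ⊔ X : Subgroup G) : Set G) :=
    Coprime.mem_normalizer_of_conj_smul_eq (by
      rw [Coprime.conj_smul_eq_map, Subgroup.map_sup, ← Coprime.conj_smul_eq_map,
        ← Coprime.conj_smul_eq_map, Coprime.conj_smul_eq_self_of_mem_normalizer hgV,
        Coprime.conj_smul_eq_self_of_mem_normalizer hgX])
  have h := FixedPointFree.le_centralizer_of_fpf hw hc hcL inferInstance hfix ht ha.prime htp hXt hV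
    le_sup_right le_sup_left
  exact fun x hx v hv => (mem_centralizer_iff.mp (h hx) v hv).symm

/-- An element which is fixed-point-free on a group not centralising `P` fixes a point of `P`. -/
theorem move (ha : Act p P H) {t w : ℕ} (ht : t.Prime) (hw : w.Prime) {g : G} (hgH : g ∈ H)
    (hg : orderOf g = w) {X : Subgroup G} (hXH : X ≤ H) (hXt : IsPGroup t X)
    (hgX : g ∈ normalizer (X : Set G)) (hfX : ∀ x ∈ X, Commute g x → x = 1)
    (hne : ∃ x ∈ X, ∃ v ∈ P, ¬ Commute x v) : Fix P g := by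
  by_contra hcon
  obtain ⟨x, hx, v, hv, hxv⟩ := hne
  refine hxv (ha.fpf_centralizes ha.pgroup ht hw hg hXH hXt (hXH.trans ha.norm) (ha.norm hgH) hgX
    hfX (fun v hv hgv => ?_) x hx v hv)
  by_contra hv1
  exact hcon ⟨v, hv, hv1, hgv⟩

/-- If `e` fixes a point, no two-rank subgroup for another prime centralises `e`. -/
theorem not_fix_of_twoRank (ha : Act p P H) {t s : ℕ} (ht : t.Prime) (hs : s.Prime) (hts : s ≠ t)
    {e : G} (heH : e ∈ H) (he : orderOf e = s) {E : Subgroup G} (hEH : E ≤ H) (hE : TwoRank E t)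
    (hc : ∀ f ∈ E, Commute f e) : ¬ Fix P e := by
  rintro ⟨v, hv, hv1, hev⟩
  set W := P ⊓ centralizer {e} with hW
  have hW1 : W ≠ ⊥ := fun h => hv1 (mem_bot.mp (h ▸
    (⟨hv, mem_centralizer_singleton_iff.mpr hev.symm⟩ : v ∈ W)))
  have hEW : E ≤ normalizer (W : Set G) := fun f hf => by
    refine mem_normalizer_iff.mpr fun y => ?_
    have h1 : f ∈ normalizer (centralizer ({e} : Set G) : Set G) :=
      le_normalizer (mem_centralizer_singleton_iff.mpr (hc f hf).eq)
    rw [hW, mem_inf, mem_inf, ← mem_normalizer_iff.mp (ha.norm (hEH hf)) y,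
      ← mem_normalizer_iff.mp h1 y]
  have hcop : t.Coprime (Nat.card W) := by
    have h := (ha.coprime hEH).coprime_dvd_right (card_dvd_of_le (inf_le_left : W ≤ P))
    rw [hE.card_eq] at h
    exact (Nat.coprime_pow_left_iff (by norm_num) _ _).mp h
  obtain ⟨f, hf, -, hft, w, hw, hw1, hfw⟩ := exists_fixed ht hE hEW hW1 hcop
  exact hw1 (ha.free e heH f (hEH hf) (he ▸ hs) (hft ▸ ht) (by rw [he, hft]; exact hts)
    (hc f hf).symm w hw.1 (mem_centralizer_singleton_iff.mp hw.2).symm hfw)

/-- A two-rank subgroup has an element fixing a point. -/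
theorem exists_fix (ha : Act p P H) {t : ℕ} (ht : t.Prime) {E : Subgroup G} (hEH : E ≤ H)
    (hE : TwoRank E t) : ∃ f ∈ E, f ≠ 1 ∧ orderOf f = t ∧ Fix P f := by
  have hcop : t.Coprime (Nat.card P) := by
    have h := ha.coprime hEH
    rw [hE.card_eq] at h
    exact (Nat.coprime_pow_left_iff (by norm_num) _ _).mp h
  obtain ⟨f, hf, hf1, hft, v, hv, hv1, hfv⟩ :=
    exists_fixed ht hE (hEH.trans ha.norm) ha.ne hcop
  exact ⟨f, hf, hf1, hft, v, hv, hv1, hfv⟩

/-- An element acting nontrivially on a normalised group of prime order fixes a point. -/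
theorem move_zpowers (ha : Act p P H) {t w : ℕ} (ht : t.Prime) (hw : w.Prime) {g x : G}
    (hgH : g ∈ H) (hg : orderOf g = w) (hxH : x ∈ H) (hx : orderOf x = t)
    (hgx : g ∈ normalizer (zpowers x : Set G)) (hne : ¬ Commute g x)
    (hxP : ∃ v ∈ P, ¬ Commute x v) : Fix P g := by
  have := Fact.mk ht
  refine ha.move ht hw hgH hg (zpowers_le.mpr hxH)
    (IsPGroup.of_card (n := 1) (by rw [Nat.card_zpowers, hx, pow_one])) hgx (fun y hy hgy => ?_)
    ⟨x, mem_zpowers x, hxP⟩
  by_contra hy1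
  have hyx : zpowers y = zpowers x := eq_of_le_of_card_ge (zpowers_le.mpr hy) (by
    rw [Nat.card_zpowers, Nat.card_zpowers, hx]
    rcases (Nat.dvd_prime ht).mp (hx ▸ orderOf_dvd_of_mem_zpowers hy) with h | h
    · exact absurd (orderOf_eq_one_iff.mp h) hy1
    · rw [h])
  obtain ⟨i, hi⟩ := mem_zpowers_iff.mp (hyx ▸ mem_zpowers x : x ∈ zpowers y)
  exact hne (hi ▸ hgy.zpow_right i)

/-- An element acting nontrivially on a normalised abelian group of coprime order fixes a point,
if no nonidentity element of that group centralises `P`. -/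
theorem move_abelian (ha : Act p P H) {t w : ℕ} (ht : t.Prime) (hw : w.Prime) (htw : t ≠ w)
    {g : G} (hgH : g ∈ H) (hg : orderOf g = w) {A : Subgroup G} [IsMulCommutative A] (hAH : A ≤ H)
    (hAt : IsPGroup t A) (hgA : g ∈ normalizer (A : Set G))
    (hne : ∃ x ∈ A, ¬ Commute g x)
    (hfaith : ∀ x ∈ A, (∀ v ∈ P, Commute x v) → x = 1) : Fix P g := by
  have := Fact.mk ht
  have hgA' : zpowers g ≤ normalizer (A : Set G) := zpowers_le.mpr hgA
  have hle : ⁅A, zpowers g⁆ ≤ A := Coprime.commutator_le_of_le_normalizer hgA'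
  have hcop : (Nat.card (zpowers g)).Coprime (Nat.card A) := by
    obtain ⟨n, hn⟩ := hAt.exists_card_eq
    rw [Nat.card_zpowers, hg, hn]
    exact ((Nat.coprime_primes hw ht).mpr htw.symm).pow_right n
  have hbot := Coprime.centralizer_inf_commutator_eq_bot hgA' hcop
  refine ha.move ht hw hgH hg (hle.trans hAH) (hAt.to_le hle)
    (normalizer_commutator_ge_right A (zpowers g) (mem_zpowers g)) (fun x hx hgx => ?_) ?_
  · rw [← mem_bot, ← hbot]
    refine ⟨⟨hle hx, ?_⟩, hx⟩
    rw [FixedPointFree.centralizer_zpowers]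
    exact mem_centralizer_singleton_iff.mpr hgx.symm.eq
  · obtain ⟨a, ha', hga⟩ := hne
    refine ⟨⁅a, g⁆, commutator_mem_commutator ha' (mem_zpowers g), ?_⟩
    by_contra hcon
    push Not at hcon
    exact hga (commutatorElement_eq_one_iff_commute.mp (hfaith _
      (hle (commutator_mem_commutator ha' (mem_zpowers g))) hcon)).symm

end Act

end Cfsg.Agent.FourPrimes
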