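import Cfsg.Agent.FourPrimes.Abelian
import Cfsg.Agent.Fusion.RankTwo

/-!
The one-prime case: the cores have cyclic centres, and the conclusion of this case.
-/

set_option autoImplicit false
set_option linter.unusedSectionVars false

namespace Cfsg.Agent.FourPrimes

open Subgroup
open scoped commutatorElement Pointwise

universe u

variable {G : Type u} [Group G] [Finite G]

/-- An odd `r`-group without two-rank subgroups is cyclic. -/
theorem isCyclic_of_no_twoRank {r : ℕ} (hr : r.Prime) (hr2 : r ≠ 2) {Y : Subgroup G}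
    (hY : IsPGroup r Y) (hno : ∀ E : Subgroup G, E ≤ Y → ¬ TwoRank E r) : IsCyclic Y := by
  have := Fact.mk hr
  rcases eq_or_ne Y ⊥ with rfl | hY1
  · infer_instance
  obtain ⟨c, hc, hco, hcc⟩ := exists_central_orderOf hr hY le_rfl le_normalizer hY1
  have huniq : ∀ y ∈ Y, orderOf y = r → y ∈ zpowers c :=
    (twoRank_or_unique hr hc hco hcc).resolve_left fun ⟨E, hE, _, hE2⟩ => hno E hE hE2
  refine (Fusion.cyclic_or_quaternion_of_unique hY fun A B hA hB => ?_).resolve_right fun h => hr2 h.1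
  have key : ∀ A : Subgroup Y, Nat.card A = r → A = zpowers (⟨c, hc⟩ : Y) := by
    intro A hA
    refine eq_of_le_of_card_ge (fun y hy => ?_) (by rw [Nat.card_zpowers, orderOf_mk, hco, hA])
    rcases eq_or_ne y 1 with rfl | hy1
    · exact one_mem _
    have hyo : orderOf (y : G) = r := by
      rw [orderOf_coe]
      exact ((Nat.dvd_prime hr).mp (hA ▸ Subgroup.orderOf_dvd_natCard A hy)).resolve_left
        fun h => hy1 (orderOf_eq_one_iff.mp h)
    obtain ⟨i, hi⟩ := mem_zpowers_iff.mp (huniq y y.2 hyo)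
    exact mem_zpowers_iff.mpr ⟨i, Subtype.ext hi⟩
  rw [key A hA, key B hB]

theorem not_twoRank_of_isCyclic {r : ℕ} (hr : r.Prime) {Y : Subgroup G} (hY : IsCyclic Y)
    {E : Subgroup G} (hE : E ≤ Y) : ¬ TwoRank E r := fun h =>
  h.not_isCyclic hr (isCyclic_of_injective (inclusion hE) (inclusion_injective hE))

variable [Group.IsSolvable G]

namespace One

variable {p t u w : ℕ} {P H : Subgroup G}

/-- The data of a normal subgroup `zpowers z` of order `t`. -/
structure Centre (h : One p t u w P H) (z : G) : Prop where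
  mem : z ∈ H
  order : orderOf z = t
  norm : H ≤ normalizer (zpowers z : Set G)

variable {h : One p t u w P H} {z : G}

theorem Centre.swap (hz : Centre h z) : Centre h.swap z := ⟨hz.mem, hz.order, hz.norm⟩

theorem Centre.conj_commute (hz : Centre h z) {g y : G} (hg : g ∈ H) (hy : Commute y z) :
    Commute (g * y * g⁻¹) z := by
  have h1 : g * z * g⁻¹ ∈ zpowers z := (mem_normalizer_iff.mp (hz.norm hg) z).mp (mem_zpowers z)
  have h2 := mul_conj_mem_zpowers h.primes.1 hz.order hz.order h1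
  have h3 : z ∈ (zpowers z).map (MulAut.conj g).toMonoidHom := h2.symm ▸ mem_zpowers z
  obtain ⟨c, hc, hcz⟩ := h3
  obtain ⟨i, rfl⟩ := mem_zpowers_iff.mp hc
  rw [← hcz]
  exact (Commute.conj_iff g).mpr (hy.zpow_right i)

theorem Centre.norm_centralizer (hz : Centre h z) :
    H ≤ normalizer ((H ⊓ centralizer ({z} : Set G) : Subgroup G) : Set G) := fun g hg => by
  refine mem_normalizer_iff.mpr fun y => ⟨fun hy => ⟨H.mul_mem (H.mul_mem hg hy.1) (H.inv_mem hg),
    mem_centralizer_singleton_iff.mpr (hz.conj_commute hg (mem_centralizer_singleton_iff.mp hy.2)).eq⟩,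
    fun hy => ?_⟩
  have h1 : g⁻¹ * (g * y * g⁻¹) * g⁻¹⁻¹ = y := by group
  rw [← h1]
  exact ⟨H.mul_mem (H.mul_mem (H.inv_mem hg) hy.1) (H.inv_mem (H.inv_mem hg)),
    mem_centralizer_singleton_iff.mpr
      (hz.conj_commute (H.inv_mem hg) (mem_centralizer_singleton_iff.mp hy.2)).eq⟩

theorem Centre.moved (hz : Centre h z) {r : ℕ} (hr : r.Prime) {e : G} (he : e ∈ H)
    (heo : orderOf e = r) (hne : ¬ Commute e z) : Fix P e := by
  refine h.act.move_zpowers h.primes.1 hr he heo hz.mem hz.order (hz.norm he) hne ?_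
  by_contra hcon
  push Not at hcon
  have := hz.order
  rw [h.faith z hz.mem hcon, orderOf_one] at this
  exact h.primes.1.ne_one this.symm

theorem Centre.no_pair (hz : Centre h z) {a b : G} (ha : a ∈ H) (hb : b ∈ H) (hao : orderOf a = u)
    (hbo : orderOf b = w) (haz : Commute a z) (hbz : Commute b z) : ¬ Commute a b :=
  h.triple z hz.mem a ha b hb hz.order hao hbo haz.symm hbz.symm

theorem Centre.ne_two (hz : Centre h z) : t ≠ 2 := by
  intro ht2
  subst ht2
  have hc : ∀ e ∈ H, Commute e z := by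
    intro e he
    by_contra hne
    have h1 : e * z * e⁻¹ ∈ zpowers z := (mem_normalizer_iff.mp (hz.norm he) z).mp (mem_zpowers z)
    obtain ⟨i, hi⟩ := mem_powers_iff_mem_zpowers.mpr h1
    have hi' : z ^ (i % 2) = e * z * e⁻¹ := by rw [← hz.order, pow_mod_orderOf]; exact hi
    rcases Nat.mod_two_eq_zero_or_one i with h2 | h2 <;> rw [h2] at hi'
    · rw [pow_zero, eq_comm, conj_eq_one_iff] at hi'
      have := hz.order
      rw [hi', orderOf_one] at this
      omega
    · rw [pow_one] at hi'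
      exact hne (mul_inv_eq_iff_eq_mul.mp hi'.symm)
  obtain ⟨a, ha, b, hb, hao, hbo, hab⟩ := h.pairs.2.2
  exact hz.no_pair ha hb hao hbo (hc a ha) (hc b hb) hab

theorem Centre.exists_line (hz : Centre h z) :
    (∃ e ∈ H, orderOf e = u ∧ Commute e z) ∧ ∃ e ∈ H, orderOf e = w ∧ Commute e z := by
  obtain ⟨E, hEH, hE⟩ := h.two.2.1
  obtain ⟨E', hEH', hE'⟩ := h.two.2.2
  obtain ⟨f, hf, -, hfo, hfz⟩ := exists_fixed_line h.primes.2.1 h.primes.1 hE hz.order (hEH.trans hz.norm)
  obtain ⟨f', hf', -, hfo', hfz'⟩ :=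
    exists_fixed_line h.primes.2.2 h.primes.1 hE' hz.order (hEH'.trans hz.norm)
  exact ⟨⟨f, hEH hf, hfo, hfz⟩, f', hEH' hf', hfo', hfz'⟩

/-- Both other primes have rank one in the centraliser of `z`. -/
theorem Centre.rank_one_aux (hz : Centre h z)
    (hnu : ∀ E : Subgroup G, E ≤ H → TwoRank E u → ¬ ∀ f ∈ E, Commute f z)
    {M : Subgroup G} (hMC : M ≤ H ⊓ centralizer {z})
    (hMidx : ∀ r : ℕ, r.Prime → r ≠ t → ¬ r ∣ M.relIndex (H ⊓ centralizer {z}))
    {g : G} (hgM : g ∈ M) (hgo : orderOf g = w) (hcore : core u M ≠ ⊥) : False := by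
  obtain ⟨ht, hu, hw⟩ := h.primes
  obtain ⟨htu, htw, huw⟩ := h.ne
  have := Fact.mk ht
  have := Fact.mk hu
  have := Fact.mk hw
  set C := H ⊓ centralizer ({z} : Set G) with hC
  have hCmem : ∀ {e : G}, e ∈ C ↔ e ∈ H ∧ Commute e z := fun {e} => by
    rw [hC, mem_inf, mem_centralizer_singleton_iff]; exact Iff.rfl
  have hnuC : ∀ E : Subgroup G, E ≤ C → ¬ TwoRank E u := fun E hE hE2 =>
    hnu E (fun f hf => (hCmem.mp (hE hf)).1) hE2 fun f hf => (hCmem.mp (hE hf)).2
  obtain ⟨x₁, hx₁c, hx₁o, hx₁cen⟩ :=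
    exists_central_orderOf hu (isPGroup_core u M) le_rfl le_normalizer hcore
  have hx₁M : x₁ ∈ M := core_le u M hx₁c
  have huniq : ∀ y ∈ core u M, orderOf y = u → y ∈ zpowers x₁ :=
    (twoRank_or_unique hu hx₁c hx₁o hx₁cen).resolve_left
      fun ⟨E, hE, _, hE2⟩ => hnuC E ((hE.trans (core_le u M)).trans hMC) hE2
  have hMx : M ≤ normalizer (zpowers x₁ : Set G) := fun e he =>
    mem_normalizer_zpowers hu hx₁o (huniq _ ((mem_normalizer_iff.mp (le_normalizer_core u M he) x₁).mp
      hx₁c) (by rw [orderOf_conj, hx₁o]))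
  obtain ⟨hgH, hgz⟩ := hCmem.mp (hMC hgM)
  obtain ⟨hx₁H, hx₁z⟩ := hCmem.mp (hMC hx₁M)
  have hgx : ¬ Commute g x₁ := fun hc => hz.no_pair hx₁H hgH hx₁o hgo hx₁z hgz hc.symm
  have hwu : w < u := by
    by_contra hle
    exact hgx (commute_of_not_dvd hu hw hx₁o hgo (hMx hgM) (by omega))
  have hu2 : u ≠ 2 := fun h2 => by have := hw.two_le; omega
  have hconjC : ∀ y ∈ C, ∀ y' ∈ C, orderOf y = u → orderOf y' = u →
      ∃ k ∈ C, k * y * k⁻¹ ∈ zpowers y' :=
    (twoRank_or_conj hu C).resolve_left fun ⟨E, hE, hE2⟩ => hnuC E hE hE2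
  -- a two-rank `u`-subgroup containing `x₁`
  obtain ⟨Eu₁, hEu₁H, hx₁E, hEu₁⟩ : ∃ E : Subgroup G, E ≤ H ∧ x₁ ∈ E ∧ TwoRank E u := by
    obtain ⟨E, hEH, hE⟩ := h.two.2.1
    obtain ⟨f, hf, -, hfo, hfz⟩ := exists_fixed_line hu ht hE hz.order (hEH.trans hz.norm)
    obtain ⟨k, hk, hkf⟩ := hconjC f (hCmem.mpr ⟨hEH hf, hfz⟩) x₁ (hMC hx₁M) hfo hx₁o
    refine ⟨E.map (MulAut.conj k).toMonoidHom, ?_, ?_, hE.map k⟩
    · rintro _ ⟨y, hy, rfl⟩
      exact H.mul_mem (H.mul_mem (hCmem.mp hk).1 (hEH hy)) (H.inv_mem (hCmem.mp hk).1)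
    · have h1 := mul_conj_mem_zpowers hu hx₁o hfo hkf
      have h2 : x₁ ∈ (zpowers f).map (MulAut.conj k).toMonoidHom := h1.symm ▸ mem_zpowers x₁
      exact map_mono (zpowers_le.mpr hf) h2
  obtain ⟨Ew, hEwH, hEw⟩ := h.two.2.2
  obtain ⟨d, hd, hEwx⟩ := exists_normalized_conj (w := w) hu (C := C) (M := M) (hMC hx₁M) hx₁o hMC
    hMx (hMidx w hw htw.symm) hconjC hEw.isPGroup (hEwH.trans hz.norm_centralizer)
  set x := d * x₁ * d⁻¹ with hxdef
  have hxo : orderOf x = u := by rw [hxdef, orderOf_conj, hx₁o]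
  obtain ⟨hxH, hxz⟩ := hCmem.mp (show x ∈ C from C.mul_mem (C.mul_mem hd (hMC hx₁M)) (C.inv_mem hd))
  set Eu := Eu₁.map (MulAut.conj d).toMonoidHom with hEudef
  have hEu : TwoRank Eu u := hEu₁.map d
  have hxEu : x ∈ Eu := ⟨x₁, hx₁E, rfl⟩
  have hEuH : Eu ≤ H := by
    rintro _ ⟨y, hy, rfl⟩
    exact H.mul_mem (H.mul_mem (hCmem.mp hd).1 (hEu₁H hy)) (H.inv_mem (hCmem.mp hd).1)
  have hfixw : ∀ e ∈ H, orderOf e = w → Commute e x → Fix P e := fun e he heo hex =>
    hz.moved hw he heo fun hc => hz.no_pair hxH he hxo heo hxz hc hex.symm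
  have hno2w : ∀ E : Subgroup G, E ≤ H → TwoRank E w → ¬ ∀ f ∈ E, Commute f x := by
    intro E hEH hE hc
    obtain ⟨f, hf, -, hfo, hfz⟩ := exists_fixed_line hw ht hE hz.order (hEH.trans hz.norm)
    exact hz.no_pair hxH (hEH hf) hxo hfo hxz hfz (hc f hf).symm
  obtain ⟨a₀, ha₀, -, ha₀o, ha₀x⟩ := exists_fixed_line hw hu hEw hxo hEwx
  set C₁ := H ⊓ centralizer ({x} : Set G) with hC₁
  have hC₁mem : ∀ {e : G}, e ∈ C₁ ↔ e ∈ H ∧ Commute e x := fun {e} => by
    rw [hC₁, mem_inf, mem_centralizer_singleton_iff]; exact Iff.rfl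
  obtain ⟨M₁, hM₁C, hEuM, -, hM₁supp, -, hM₁conj⟩ := h.exists_hall (C := C₁) inf_le_left
    (fun e he => hC₁mem.mpr ⟨hEuH he, hEu.commute he hxEu⟩ : Eu ≤ C₁) (by
    rw [hEu.card_eq]
    exact fun hd => htu ((Nat.prime_dvd_prime_iff_eq ht hu).mp (ht.dvd_of_dvd_pow hd)))
  obtain ⟨k, hk, haM⟩ := hM₁conj a₀ (hC₁mem.mpr ⟨hEwH ha₀, ha₀x⟩) (by
    rw [ha₀o]; exact fun hd => htw ((Nat.prime_dvd_prime_iff_eq ht hw).mp hd))
  set a := k * a₀ * k⁻¹ with hadef
  have hao : orderOf a = w := by rw [hadef, orderOf_conj, ha₀o]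
  have hM₁H : M₁ ≤ H := hM₁C.trans inf_le_left
  have hM₁x : ∀ e ∈ M₁, Commute e x := fun e he => (hC₁mem.mp (hM₁C he)).2
  have hcorew : core w M₁ = ⊥ := by
    by_contra hne
    obtain ⟨c, hc, hco, hcc⟩ := exists_central_orderOf hw (isPGroup_core w M₁) le_rfl le_normalizer hne
    rcases twoRank_or_unique hw hc hco hcc with ⟨E, hEc, -, hE⟩ | huniq'
    · exact hno2w E ((hEc.trans (core_le w M₁)).trans hM₁H) hE
        fun f hf => hM₁x f (core_le w M₁ (hEc hf))
    · refine h.act.not_fix_of_twoRank hu hw huw.symm (hM₁H (core_le w M₁ hc)) hco hEuH hEu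
        (fun f hf => ?_) (hfixw c (hM₁H (core_le w M₁ hc)) hco (hM₁x c (core_le w M₁ hc)))
      rcases eq_or_ne f 1 with rfl | hf1
      · exact Commute.one_left c
      refine commute_of_not_dvd hw hu hco (hEu.orderOf_eq hu hf hf1)
        (mem_normalizer_zpowers hw hco (huniq' _ ((mem_normalizer_iff.mp
          (le_normalizer_core w M₁ (hEuM hf)) c).mp hc) ?_)) hwu.le
      rw [orderOf_conj, hco]
  set U₁ := core u M₁ with hU₁
  have hxU : x ∈ U₁ := centralizer_core_le hu hM₁supp hcorew (hEuM hxEu)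
    fun y hy => (hM₁x y (core_le u M₁ hy)).symm
  have haU : ∃ y ∈ U₁, ¬ Commute a y := by
    by_contra hcon
    push Not at hcon
    obtain ⟨n, hn⟩ := (isPGroup_core u M₁).exists_card_eq
    have := Subgroup.orderOf_dvd_natCard U₁ (centralizer_core_le hu hM₁supp hcorew haM hcon)
    rw [hao] at this
    exact huw ((Nat.prime_dvd_prime_iff_eq hw hu).mp (hw.dvd_of_dvd_pow (hn ▸ this))).symm
  have haN : zpowers a ≤ normalizer (U₁ : Set G) := zpowers_le.mpr (le_normalizer_core u M₁ haM)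
  have hcop : (Nat.card (zpowers a)).Coprime (Nat.card U₁) := by
    obtain ⟨n, hn⟩ := (isPGroup_core u M₁).exists_card_eq
    rw [Nat.card_zpowers, hao, hn]
    exact ((Nat.coprime_primes hw hu).mpr huw.symm).pow_right n
  set Y := ⁅U₁, zpowers a⁆ with hY
  have hYU : Y ≤ U₁ := Coprime.commutator_le_of_le_normalizer haN
  have hYM : Y ≤ M₁ := hYU.trans (core_le u M₁)
  have hYz : ∀ y ∈ Y, Commute y z := by
    intro y hy
    have hle : Y ≤ centralizer ({z} : Set G) := commutator_le.mpr fun b hb c hc => by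
      refine mem_centralizer_singleton_iff.mpr ?_
      exact (commutator_commute_of_cyclic (K := zpowers z) inferInstance
        (hz.norm (hM₁H (core_le u M₁ hb))) (hz.norm ((zpowers_le.mpr (hM₁H haM)) hc))
        (mem_zpowers z)).eq
    exact mem_centralizer_singleton_iff.mp (hle hy)
  have hYcyc : IsCyclic Y := isCyclic_of_no_twoRank hu hu2 ((isPGroup_core u M₁).to_le hYU)
    fun E hE hE2 => hnuC E (fun f hf => hCmem.mpr ⟨hM₁H (hYM (hE hf)), hYz f (hE hf)⟩) hE2
  have haY : ∀ y ∈ Y, Commute a y := by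
    refine commute_of_cyclic ((isPGroup_core u M₁).to_le hYU) hYcyc
      (by rw [hao]; exact (Nat.coprime_primes hw hu).mpr huw.symm)
      (normalizer_commutator_ge_right U₁ (zpowers a) (mem_zpowers a)) fun y hy hyo => ?_
    have hax : Commute a x := hM₁x a haM
    by_cases hyx : y ∈ zpowers x
    · obtain ⟨i, rfl⟩ := mem_zpowers_iff.mp hyx
      exact hax.zpow_right i
    · exact absurd (twoRank_of_pair hu hyo hxo (hM₁x y (hYM hy)) hyx) (hnuC _
        (sup_le (zpowers_le.mpr (hCmem.mpr ⟨hM₁H (hYM hy), hYz y hy⟩))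
          (zpowers_le.mpr (hCmem.mpr ⟨hxH, hxz⟩))))
  have hbot : Y = ⊥ := by
    rw [hY, ← Coprime.commutator_commutator_eq haN hcop (Or.inl
      (Group.isSolvable_of_comm fun a b => IsMulCommutative.is_comm.comm a b)), ← hY,
      commutator_eq_bot_iff_le_centralizer]
    intro y hy
    rw [FixedPointFree.centralizer_zpowers]
    exact mem_centralizer_singleton_iff.mpr (haY y hy).symm.eq
  obtain ⟨y, hy, hay⟩ := haU
  exact hay (commutatorElement_eq_one_iff_commute.mp
    (mem_bot.mp (hbot ▸ commutator_mem_commutator hy (mem_zpowers a)))).symm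

/-- Both other primes have rank one in the centraliser of `z`. -/
theorem Centre.rank_one (hz : Centre h z)
    (hnu : ∀ E : Subgroup G, E ≤ H → TwoRank E u → ¬ ∀ f ∈ E, Commute f z)
    (hnw : ∀ E : Subgroup G, E ≤ H → TwoRank E w → ¬ ∀ f ∈ E, Commute f z) : False := by
  obtain ⟨ht, hu, hw⟩ := h.primes
  obtain ⟨htu, htw, huw⟩ := h.ne
  obtain ⟨⟨e, he, heo, hez⟩, e', he', heo', hez'⟩ := hz.exists_line
  have hmem : ∀ {y : G}, y ∈ H → Commute y z → y ∈ H ⊓ centralizer ({z} : Set G) :=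
    fun hy hc => ⟨hy, mem_centralizer_singleton_iff.mpr hc.eq⟩
  obtain ⟨M, hMC, heM, -, hMsupp, hMidx, hMconj⟩ := h.exists_hall (C := H ⊓ centralizer {z})
    inf_le_left (zpowers_le.mpr (hmem he hez)) (by
      rw [Nat.card_zpowers, heo]; exact fun hd => htu ((Nat.prime_dvd_prime_iff_eq ht hu).mp hd))
  obtain ⟨d, -, he'M⟩ := hMconj e' (hmem he' hez') (by
    rw [heo']; exact fun hd => htw ((Nat.prime_dvd_prime_iff_eq ht hw).mp hd))
  have hM1 : M ≠ ⊥ := fun hb => by
    have := heM (mem_zpowers e)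
    rw [hb, mem_bot] at this
    rw [this, orderOf_one] at heo
    exact hu.ne_one heo.symm
  obtain ⟨r, hr, hrd, hcore⟩ := exists_core_ne_bot hM1
  rcases hMsupp r hr hrd with rfl | rfl
  · exact hz.rank_one_aux hnu hMC hMidx he'M (by rw [orderOf_conj, heo']) hcore
  · exact hz.swap.rank_one_aux hnw hMC hMidx (heM (mem_zpowers e)) heo hcore

/-- Some other prime has rank two in the centraliser of `z`. -/
theorem Centre.rank_two (hz : Centre h z)
    (hcen : ∀ c ∈ core t H, orderOf c = t → (∀ y ∈ core t H, Commute c y) → c ∈ zpowers z)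
    (hcase : ¬ IsCyclic (core t H) ∨ ∀ r : ℕ, r.Prime → IsCyclic (core r H))
    {E : Subgroup G} (hEH : E ≤ H) (hE : TwoRank E u) (hEz : ∀ f ∈ E, Commute f z) : False := by
  obtain ⟨ht, hu, hw⟩ := h.primes
  obtain ⟨htu, htw, huw⟩ := h.ne
  have := Fact.mk ht
  have := Fact.mk hu
  have := Fact.mk hw
  obtain ⟨-, e', he', heo', hez'⟩ := hz.exists_line
  set C := H ⊓ centralizer ({z} : Set G) with hC
  have hmem : ∀ {y : G}, y ∈ H → Commute y z → y ∈ C :=
    fun hy hc => ⟨hy, mem_centralizer_singleton_iff.mpr hc.eq⟩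
  obtain ⟨M, hMC, hEM, -, hMsupp, -, hMconj⟩ := h.exists_hall (C := C) inf_le_left
    (fun f hf => hmem (hEH hf) (hEz f hf) : E ≤ C) (by
      rw [hE.card_eq]
      exact fun hd => htu ((Nat.prime_dvd_prime_iff_eq ht hu).mp (ht.dvd_of_dvd_pow hd)))
  obtain ⟨d, -, hgM⟩ := hMconj e' (hmem he' hez') (by
    rw [heo']; exact fun hd => htw ((Nat.prime_dvd_prime_iff_eq ht hw).mp hd))
  set g := d * e' * d⁻¹ with hgdef
  have hgo : orderOf g = w := by rw [hgdef, orderOf_conj, heo']
  have hMH : M ≤ H := hMC.trans inf_le_left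
  have hMz : ∀ y ∈ M, Commute y z := fun y hy => mem_centralizer_singleton_iff.mp (hMC hy).2
  have hno : ∀ a ∈ M, ∀ b ∈ M, orderOf a = u → orderOf b = w → ¬ Commute a b :=
    fun a ha b hb hao hbo => hz.no_pair (hMH ha) (hMH hb) hao hbo (hMz a ha) (hMz b hb)
  have hcorew : core w M = ⊥ := by
    by_contra hne
    obtain ⟨n, hn⟩ := (isPGroup_core w M).exists_card_eq
    obtain ⟨f, hf, -, hfo, v, hv, hv1, hfv⟩ := exists_fixed hu hE
      (hEM.trans (le_normalizer_core w M)) hne
      (hn ▸ ((Nat.coprime_primes hu hw).mpr huw).pow_right n)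
    obtain ⟨k, hk⟩ := exists_pow_orderOf hw (isPGroup_core w M) hv hv1
    exact hno f (hEM hf) _ (pow_mem (core_le w M hv) k) hfo hk (hfv.pow_right k)
  set U₀ := core u M with hU₀
  have hU₀M : U₀ ≤ M := core_le u M
  have hU₀p : IsPGroup u U₀ := isPGroup_core u M
  have hgH : g ∈ H := hMH hgM
  have hgfpf : ∀ y ∈ U₀, Commute g y → y = 1 :=
    fpf_of_no_commute hu hU₀p fun y hy hyo hc => hno y (hU₀M hy) g hgM hyo hgo hc.symm
  have hU₀1 : ∃ y ∈ U₀, y ≠ 1 := by
    refine (bot_or_exists_ne_one U₀).resolve_left fun hb => ?_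
    have h1 : g ∈ U₀ := centralizer_core_le hu hMsupp hcorew hgM fun y hy => by
      have hy' : y = 1 := mem_bot.mp (hb ▸ hy)
      rw [hy']; exact Commute.one_right g
    rw [hb, mem_bot] at h1
    rw [h1, orderOf_one] at hgo
    exact hw.ne_one hgo.symm
  have hgfix : Fix P g := by
    refine h.act.move hu hw hgH hgo (hU₀M.trans hMH) hU₀p (le_normalizer_core u M hgM) hgfpf ?_
    obtain ⟨y, hy, hy1⟩ := hU₀1
    refine ⟨y, hy, ?_⟩
    by_contra hcon
    push Not at hcon
    exact hy1 (h.faith y (hMH (hU₀M hy)) hcon)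
  have hgU : zpowers g ≤ normalizer (U₀ : Set G) := zpowers_le.mpr (le_normalizer_core u M hgM)
  have hndvd : ∀ {r : ℕ} {X : Subgroup G}, r.Prime → r ≠ w → IsPGroup r X → ¬ w ∣ Nat.card X := by
    intro r X hr hrw hX hd
    have := Fact.mk hr
    obtain ⟨n, hn⟩ := hX.exists_card_eq
    exact hrw ((Nat.prime_dvd_prime_iff_eq hw hr).mp (hw.dvd_of_dvd_pow (hn ▸ hd))).symm
  -- `U₀` has rank one
  have hno2 : ∀ E' : Subgroup G, E' ≤ U₀ → ¬ TwoRank E' u := by
    set T := core t H with hT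
    have hTH : T ≤ H := core_le t H
    have hTp : IsPGroup t T := isPGroup_core t H
    rcases hcase with hnc | hall
    · obtain ⟨B₀, hB₀n, hB₀e, hB₀c⟩ :=
        Fusion.exists_normal_elementary_card_sq (G := T) hz.ne_two hTp hnc
      set B := B₀.map T.subtype with hB
      have hBT : B ≤ T := map_subtype_le _
      have hBc : Nat.card B = t ^ 2 := by rw [hB, card_map_of_injective T.subtype_injective, hB₀c]
      have hTB : T ≤ normalizer (B : Set G) := by
        refine (normal_subgroupOf_iff_le_normalizer hBT).mp ?_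
        have : B.subgroupOf T = B₀ := comap_map_eq_self_of_injective T.subtype_injective _
        rw [this]; exact hB₀n
      have hB2 : TwoRank B t := by
        refine ⟨⟨⟨?_⟩⟩, ?_, hBc⟩
        · rintro ⟨_, a, ha, rfl⟩ ⟨_, b, hb, rfl⟩
          refine Subtype.ext ?_
          have := hB₀e.1
          have h1 : a * b = b * a := setLike_mul_comm (s := B₀) ha hb
          change T.subtype a * T.subtype b = T.subtype b * T.subtype a
          rw [← map_mul, ← map_mul, h1]
        · rintro _ ⟨a, ha, rfl⟩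
          exact congrArg Subtype.val (hB₀e.2 a ha)
      have hzt : z ^ t = 1 := hz.order ▸ pow_orderOf_eq_one z
      have hB1 : B ≠ ⊥ := fun hb => by
        rw [hb, card_bot] at hBc
        exact absurd hBc.symm (Nat.one_lt_pow two_ne_zero ht.one_lt).ne'
      obtain ⟨c, hcB, hco, hcc⟩ := exists_central_orderOf ht hTp hBT hTB hB1
      have hcz : zpowers c = zpowers z := eq_of_le_of_card_ge
        (zpowers_le.mpr (hcen c (hBT hcB) hco hcc)) (by rw [Nat.card_zpowers, Nat.card_zpowers, hco, hz.order])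
      have hzB : z ∈ B := zpowers_le.mpr hcB (hcz ▸ mem_zpowers z)
      have hzT : ∀ y ∈ T, Commute z y := fun y hy => by
        obtain ⟨i, hi⟩ := mem_zpowers_iff.mp (hcz ▸ mem_zpowers z : z ∈ zpowers c)
        rw [← hi]
        exact (hcc y hy).zpow_left i
      have hzcomm : ∀ {a : G}, a ∈ zpowers z → ∀ y ∈ T, Commute a y := fun ha y hy => by
        obtain ⟨i, rfl⟩ := mem_zpowers_iff.mp ha
        exact (hzT y hy).zpow_left i
      let A : Subgroup G :=
        { carrier := {a | a ∈ T ∧ a ^ t = 1 ∧ ∀ y ∈ T, ⁅a, y⁆ ∈ zpowers z}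
          one_mem' := ⟨T.one_mem, one_pow t, fun y _ => by
            rw [commutatorElement_one_left]; exact one_mem _⟩
          mul_mem' := fun {a b} ha hb => by
            refine ⟨T.mul_mem ha.1 hb.1, ?_, fun y hy => ?_⟩
            · have hm := hb.2.2 a ha.1
              obtain ⟨m, hm'⟩ : t ∣ t.choose 2 :=
                ht.dvd_choose_self two_ne_zero (lt_of_le_of_ne ht.two_le (Ne.symm hz.ne_two))
              obtain ⟨i, hi⟩ := mem_zpowers_iff.mp hm
              rw [Fusion.mul_pow_of_commute_commutator (hzcomm hm a ha.1) (hzcomm hm b hb.1), ha.2.1,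
                hb.2.1, hm', pow_mul, ← hi, ← zpow_natCast (z ^ i), ← zpow_mul, mul_comm i, zpow_mul,
                zpow_natCast, hzt, one_zpow, one_pow, one_mul, one_mul]
            · have e : ⁅a * b, y⁆ = a * ⁅b, y⁆ * a⁻¹ * ⁅a, y⁆ := by
                simp only [commutatorElement_def]; group
              rw [e, ← ((hzcomm (hb.2.2 y hy)) a ha.1).eq, mul_inv_cancel_right]
              exact mul_mem (hb.2.2 y hy) (ha.2.2 y hy)
          inv_mem' := fun {a} ha => by
            refine ⟨T.inv_mem ha.1, by rw [inv_pow, ha.2.1, inv_one], fun y hy => ?_⟩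
            have e : ⁅a⁻¹, y⁆ = a⁻¹ * ⁅a, y⁆⁻¹ * a := by
              simp only [commutatorElement_def]; group
            rw [e, ((hzcomm (inv_mem (ha.2.2 y hy))) a ha.1).symm.inv_left.eq, inv_mul_cancel_right]
            exact inv_mem (ha.2.2 y hy) }
      have hAT : A ≤ T := fun a ha => ha.1
      have hBA : B ≤ A := by
        intro b hb
        refine ⟨hBT hb, hB2.pow_eq_one b hb, fun y hy => ?_⟩
        have hlt : ⁅B, T⁆ < B := Coprime.commutator_lt_of_isPGroup hTp (hTp.to_le hBT) hTB hB1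
        have hbm := commutator_mem_commutator hb hy
        rcases eq_or_ne ⁅B, T⁆ ⊥ with h0 | h0
        · rw [h0, mem_bot] at hbm
          rw [hbm]; exact one_mem _
        obtain ⟨c', hc', hc'o, hc'c⟩ := exists_central_orderOf ht hTp (hlt.le.trans hBT)
          (normalizer_commutator_ge_right B T) h0
        have hle : zpowers z ≤ ⁅B, T⁆ := by
          refine le_trans (le_of_eq ?_) (zpowers_le.mpr hc')
          exact (eq_of_le_of_card_ge (zpowers_le.mpr (hcen c' (hBT (hlt.le hc')) hc'o hc'c))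
            (by rw [Nat.card_zpowers, Nat.card_zpowers, hc'o, hz.order])).symm
        have hcard : Nat.card ↥⁅B, T⁆ ≤ t := by
          obtain ⟨m, hm2, hm⟩ := (Nat.dvd_prime_pow ht).mp (hBc ▸ card_dvd_of_le hlt.le)
          rcases Nat.lt_or_ge m 2 with hm' | hm'
          · rw [hm]
            calc t ^ m ≤ t ^ 1 := Nat.pow_le_pow_right ht.pos (by omega)
              _ = t := pow_one t
          · exfalso
            have : m = 2 := by omega
            exact hlt.ne (eq_of_le_of_card_ge hlt.le (by rw [hm, this, hBc]))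
        rw [eq_of_le_of_card_ge hle (by rw [Nat.card_zpowers, hz.order]; exact hcard)]
        exact hbm
      have hAconj : ∀ {y a : G}, y ∈ H → a ∈ A → y * a * y⁻¹ ∈ A := by
        intro y a hy ha
        refine ⟨(mem_normalizer_iff.mp (le_normalizer_core t H hy) a).mp ha.1, by
          rw [conj_pow, ha.2.1, mul_one, mul_inv_cancel], fun v hv => ?_⟩
        have hv' : y⁻¹ * v * y ∈ T := by
          simpa using (mem_normalizer_iff.mp (le_normalizer_core t H (H.inv_mem hy)) v).mp hv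
        have e : ⁅y * a * y⁻¹, v⁆ = y * ⁅a, y⁻¹ * v * y⁆ * y⁻¹ := by
          simp only [commutatorElement_def]; group
        rw [e]
        exact (mem_normalizer_iff.mp (hz.norm hy) _).mp (ha.2.2 _ hv')
      have hHA : H ≤ normalizer (A : Set G) := fun y hy => mem_normalizer_iff.mpr fun a =>
        ⟨hAconj hy, fun ha => by simpa [mul_assoc] using hAconj (H.inv_mem hy) ha⟩
      have hAp : IsPGroup t A := hTp.to_le hAT
      have hfA : ∀ a ∈ A, Commute g a → a ∈ zpowers z := by
        intro a ha hga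
        by_contra hne
        have ha1 : a ≠ 1 := fun h1 => hne (h1 ▸ one_mem _)
        have hE' := twoRank_of_pair ht (orderOf_eq_prime ha.2.1 ha1) hz.order (hzT a ha.1).symm hne
        refine h.act.not_fix_of_twoRank ht hw htw.symm hgH hgo
          (sup_le (zpowers_le.mpr (hTH ha.1)) (zpowers_le.mpr hz.mem)) hE' (fun f hf => ?_) hgfix
        have hle : zpowers a ⊔ zpowers z ≤ centralizer ({g} : Set G) := sup_le
          (zpowers_le.mpr (mem_centralizer_singleton_iff.mpr hga.symm.eq))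
          (zpowers_le.mpr (mem_centralizer_singleton_iff.mpr (hMz g hgM).symm.eq))
        exact mem_centralizer_singleton_iff.mp (hle hf)
      have hcop : (Nat.card U₀).Coprime (Nat.card A) := by
        obtain ⟨n, hn⟩ := hU₀p.exists_card_eq
        obtain ⟨m, hm⟩ := hAp.exists_card_eq
        rw [hn, hm]
        exact (((Nat.coprime_primes hu ht).mpr htu.symm).pow_left n).pow_right m
      have key := commutator_mem_of_fpf hw (z := z) hgo (fun a (ha : a ∈ A) => (hzT a ha.1).symm)
        (fun y hy => hMz y (hU₀M hy)) (hMz g hgM) (hHA hgH) (le_normalizer_core u M hgM)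
        ((hU₀M.trans hMH).trans hHA) (hndvd ht htw hAp) (hndvd hu huw hU₀p) hcop hfA
        (fun y hy hgy => by rw [hgfpf y hy hgy]; exact one_mem _)
        (fun a (ha : a ∈ A) b (hb : b ∈ A) => ha.2.2 b hb.1)
      have hcent : ∀ y ∈ U₀, ∀ a ∈ A, Commute y a := by
        intro y hy a ha
        have hyA : zpowers y ≤ normalizer (A : Set G) := zpowers_le.mpr (hHA (hMH (hU₀M hy)))
        have hle : ⁅A, zpowers y⁆ ≤ zpowers z := commutator_le.mpr fun a ha b hb => by
          rw [← commutatorElement_inv]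
          exact inv_mem (key b (zpowers_le.mpr hy hb) a ha)
        have h2 : ⁅⁅A, zpowers y⁆, zpowers y⁆ = ⊥ := le_bot_iff.mp
          ((commutator_mono hle le_rfl).trans (by
            rw [le_bot_iff, commutator_eq_bot_iff_le_centralizer, zpowers_le,
              FixedPointFree.centralizer_zpowers]
            exact mem_centralizer_singleton_iff.mpr (hMz y (hU₀M hy)).symm.eq))
        rw [Coprime.commutator_commutator_eq hyA (hcop.coprime_dvd_left
          (card_dvd_of_le (zpowers_le.mpr hy))) (Or.inl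
          (Group.isSolvable_of_comm fun a b => IsMulCommutative.is_comm.comm a b))] at h2
        exact (commutatorElement_eq_one_iff_commute.mp
          (mem_bot.mp (h2 ▸ commutator_mem_commutator ha (mem_zpowers y)))).symm
      intro E' hE' hE'2
      obtain ⟨f, hf, -, hfo, hfix⟩ := h.act.exists_fix hu ((hE'.trans hU₀M).trans hMH) hE'2
      exact h.act.not_fix_of_twoRank ht hu htu.symm (hMH (hU₀M (hE' hf))) hfo (hBT.trans hTH) hB2
        (fun b hb => (hcent f (hE' hf) b (hBA hb)).symm) hfix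
    · intro E' hE'
      refine not_twoRank_of_isCyclic hu (hall u hu) (hE'.trans ?_)
      have hcop : (Nat.card (zpowers g)).Coprime (Nat.card U₀) := by
        obtain ⟨n, hn⟩ := hU₀p.exists_card_eq
        rw [Nat.card_zpowers, hgo, hn]
        exact ((Nat.coprime_primes hw hu).mpr huw.symm).pow_right n
      have hfix0 : U₀ ⊓ centralizer (zpowers g : Set G) = ⊥ := le_bot_iff.mp fun y hy =>
        mem_bot.mpr (hgfpf y hy.1 (mem_centralizer_iff.mp hy.2 g (mem_zpowers g)))
      have hgen := Coprime.commutator_sup_centralizer hgU hcop (Or.inl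
        (Group.isSolvable_of_comm fun a b => IsMulCommutative.is_comm.comm a b))
      rw [hfix0, sup_bot_eq] at hgen
      intro y hy
      obtain ⟨n, hn⟩ := hU₀p.exists_card_eq
      refine mem_core_of_commute (hMH (hU₀M hy)) (n := n) ?_ fun r hr v hv => ?_
      · rw [← hn]
        exact congrArg Subtype.val (pow_card_eq_one' (x := (⟨y, hy⟩ : U₀)))
      have hle : ⁅U₀, zpowers g⁆ ≤ centralizer ({v} : Set G) := commutator_le.mpr fun b hb c hc => by
        refine mem_centralizer_singleton_iff.mpr ?_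
        exact (commutator_commute_of_cyclic (hall r hr) (le_normalizer_core r H (hMH (hU₀M hb)))
          (le_normalizer_core r H (zpowers_le.mpr hgH hc)) hv).eq
      exact mem_centralizer_singleton_iff.mp (hle (hgen.ge hy))
  -- conclusion
  obtain ⟨y₀, hy₀, hy₀1⟩ := hU₀1
  have hU₀b : U₀ ≠ ⊥ := fun hb => hy₀1 (mem_bot.mp (hb ▸ hy₀))
  obtain ⟨c, hc, hco, hcc⟩ := exists_central_orderOf hu hU₀p le_rfl le_normalizer hU₀b
  have huniq : ∀ y ∈ U₀, orderOf y = u → y ∈ zpowers c :=
    (twoRank_or_unique hu hc hco hcc).resolve_left fun ⟨E, hE, _, hE2⟩ => hno2 E hE hE2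
  have hgc : g ∈ normalizer (zpowers c : Set G) := mem_normalizer_zpowers hu hco
    (huniq _ ((mem_normalizer_iff.mp (le_normalizer_core u M hgM) c).mp hc) (by rw [orderOf_conj, hco]))
  have hu2 : u ≠ 2 := fun h2 => by
    refine hno c (hU₀M hc) g hgM hco hgo (commute_of_not_dvd hu hw hco hgo hgc ?_).symm
    rw [h2]; exact hw.two_le
  have hcyc := isCyclic_of_no_twoRank hu hu2 hU₀p hno2
  obtain ⟨e, he, heU⟩ : ∃ e ∈ E, e ∉ U₀ := by
    by_contra hcon
    push Not at hcon
    exact hno2 E hcon hE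
  have hdiv : ∀ b ∈ zpowers g, e⁻¹ * (b * e * b⁻¹) ∈ U₀ := by
    intro b hb
    have hbM : b ∈ M := zpowers_le.mpr hgM hb
    have heq : e⁻¹ * (b * e * b⁻¹) = ⁅e⁻¹, b⁆ := by rw [commutatorElement_def]; group
    rw [heq]
    refine centralizer_core_le hu hMsupp hcorew ?_ fun y hy => ?_
    · rw [commutatorElement_def]
      exact M.mul_mem (M.mul_mem (M.mul_mem (M.inv_mem (hEM he)) hbM) (M.inv_mem (M.inv_mem (hEM he))))
        (M.inv_mem hbM)
    · exact commutator_commute_of_cyclic hcyc (le_normalizer_core u M (M.inv_mem (hEM he)))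
        (le_normalizer_core u M hbM) hy
  obtain ⟨n, hn, hen⟩ := Coprime.exists_fixed_mem_leftCoset hgU (by
    obtain ⟨m, hm⟩ := hU₀p.exists_card_eq
    rw [Nat.card_zpowers, hgo, hm]
    exact ((Nat.coprime_primes hw hu).mpr huw.symm).pow_right m)
    (Or.inl (Group.isSolvable_of_comm fun a b => IsMulCommutative.is_comm.comm a b)) hdiv
  have hen1 : e * n ≠ 1 := fun h1 => heU (by
    rw [eq_inv_of_mul_eq_one_left h1]; exact U₀.inv_mem hn)
  have hsup : IsPGroup u (U₀ ⊔ zpowers e : Subgroup G) :=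
    hU₀p.to_sup_of_normal_left' (hE.isPGroup.to_le (zpowers_le.mpr he))
      (zpowers_le.mpr (le_normalizer_core u M (hEM he)))
  obtain ⟨k, hk⟩ := exists_pow_orderOf hu hsup
    ((U₀ ⊔ zpowers e).mul_mem (mem_sup_right (mem_zpowers e)) (mem_sup_left hn)) hen1
  exact hno _ (pow_mem (M.mul_mem (hEM he) (hU₀M hn)) k) g hgM hk hgo
    ((show Commute g (e * n) from mem_centralizer_iff.mp hen g (mem_zpowers g)).symm.pow_left k)

/-- The one-prime case, with a distinguished core. -/
theorem false_of_core (h : One p t u w P H) (hT : core t H ≠ ⊥)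
    (hcase : ¬ IsCyclic (core t H) ∨ ∀ r : ℕ, r.Prime → IsCyclic (core r H)) : False := by
  obtain ⟨ht, hu, hw⟩ := h.primes
  have := Fact.mk ht
  have := omegaCenter_comm t (core t H)
  obtain ⟨z, hzT, hzo, hzc⟩ := exists_central_orderOf ht (isPGroup_core t H) le_rfl le_normalizer hT
  set Y := omegaCenter t (core t H) with hY
  have hYH : Y ≤ H := (omegaCenter_le _ _).trans (core_le t H)
  have hno : ∀ E : Subgroup G, E ≤ Y → ¬ TwoRank E t := fun E hE hE2 =>
    h.abelian_false hYH ((isPGroup_core t H).to_le (omegaCenter_le _ _))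
      (le_normalizer_omegaCenter (le_normalizer_core t H)) ⟨E, hE, hE2⟩
  have hzY : z ∈ Y := ⟨hzT, hzc, hzo ▸ pow_orderOf_eq_one z⟩
  have huniq : ∀ c ∈ Y, orderOf c = t → c ∈ zpowers z :=
    (twoRank_or_unique ht hzY hzo fun y hy => hzc y hy.1).resolve_left
      fun ⟨E, hE, _, hE2⟩ => hno E hE hE2
  have hcen : ∀ c ∈ core t H, orderOf c = t → (∀ y ∈ core t H, Commute c y) → c ∈ zpowers z :=
    fun c hc hco hcc => huniq c ⟨hc, hcc, hco ▸ pow_orderOf_eq_one c⟩ hco
  have hz : Centre h z := ⟨core_le t H hzT, hzo, fun e he => mem_normalizer_zpowers ht hzo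
    (huniq _ ((mem_normalizer_iff.mp (le_normalizer_omegaCenter (le_normalizer_core t H) he) z).mp hzY)
      (by rw [orderOf_conj, hzo]))⟩
  by_cases hEu : ∃ E : Subgroup G, E ≤ H ∧ TwoRank E u ∧ ∀ f ∈ E, Commute f z
  · obtain ⟨E, hEH, hE, hEz⟩ := hEu
    exact hz.rank_two hcen hcase hEH hE hEz
  by_cases hEw : ∃ E : Subgroup G, E ≤ H ∧ TwoRank E w ∧ ∀ f ∈ E, Commute f z
  · obtain ⟨E, hEH, hE, hEz⟩ := hEw
    exact hz.swap.rank_two hcen hcase hEH hE hEz
  exact hz.rank_one (fun E hEH hE hEz => hEu ⟨E, hEH, hE, hEz⟩)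
    fun E hEH hE hEz => hEw ⟨E, hEH, hE, hEz⟩

/-- The one-prime case. -/
theorem absurd_one (h : One p t u w P H) : False := by
  obtain ⟨r, hr, hT, hcase⟩ : ∃ r : ℕ, r.Prime ∧ core r H ≠ ⊥ ∧
      (¬ IsCyclic (core r H) ∨ ∀ s : ℕ, s.Prime → IsCyclic (core s H)) := by
    by_cases hc : ∀ s : ℕ, s.Prime → IsCyclic (core s H)
    · obtain ⟨a, ha, -, -, hao, -, -⟩ := h.pairs.1
      have hH : H ≠ ⊥ := fun hb => by
        rw [hb, mem_bot] at ha
        rw [ha, orderOf_one] at hao
        exact h.primes.1.ne_one hao.symm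
      obtain ⟨r, hr, -, hT⟩ := exists_core_ne_bot hH
      exact ⟨r, hr, hT, Or.inr hc⟩
    · push Not at hc
      obtain ⟨r, hr, hrc⟩ := hc
      exact ⟨r, hr, fun hb => hrc (hb ▸ inferInstance), Or.inl hrc⟩
  have := Fact.mk hr
  rcases h.support r hr ((((isPGroup_core r H).card_eq_or_dvd).resolve_left
    fun h1 => hT (card_eq_one.mp h1)).trans (card_dvd_of_le (core_le r H))) with rfl | rfl | rfl
  · exact h.false_of_core hT hcase
  · exact h.rotate.false_of_core hT hcase
  · exact h.rotate.rotate.false_of_core hT hcase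

end One

end Cfsg.Agent.FourPrimes
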