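import Cfsg.Agent.FourPrimes.Cyclic
import Cfsg.Agent.Coprime.Hall

/-!
Four primes, pairwise joined but with no three joined: the group is not solvable.
-/

set_option autoImplicit false
set_option linter.unusedSectionVars false

namespace Cfsg.Agent.FourPrimes

open Subgroup
open scoped Pointwise commutatorElement

universe u

variable {G : Type u} [Group G] [Finite G] [Group.IsSolvable G]

/-- A Hall subgroup contains conjugates of all `π`-subgroups. -/
theorem exists_conj_le_hall {π : Set ℕ} {H K U : Subgroup G} (hH : Cfsg.IsPiHallOf π H K)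
    (hUK : U ≤ K) (hU : ∀ r : ℕ, r.Prime → r ∣ Nat.card U → r ∈ π) :
    ∃ k ∈ K, ∀ x ∈ U, k * x * k⁻¹ ∈ H := by
  obtain ⟨H', hH', -, hUH'⟩ := Coprime.exists_le_invariant_hall (A := (⊥ : Subgroup G)) (K := K)
    bot_le (by rw [card_bot]; exact Nat.coprime_one_left _) inferInstance hUK bot_le hU
  obtain ⟨k, hk, hkH⟩ := Coprime.exists_conj_isPiHallOf inferInstance hH' hH
  refine ⟨k, hk, fun x hx => ?_⟩
  rw [← hkH, Coprime.conj_smul_eq_map]
  exact ⟨x, hUH' hx, rfl⟩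

/-- An element of order `a * b` inside `K` gives a commuting pair in a Hall subgroup of `K`. -/
theorem exists_pair_hall {π : Set ℕ} {H K : Subgroup G} (hH : Cfsg.IsPiHallOf π H K) {a b : ℕ}
    (ha : a.Prime) (hb : b.Prime) (haπ : a ∈ π) (hbπ : b ∈ π) {g : G}
    (hg : g ∈ K) (hgo : orderOf g = a * b) :
    ∃ x ∈ H, ∃ y ∈ H, orderOf x = a ∧ orderOf y = b ∧ Commute x y := by
  obtain ⟨k, -, hk⟩ := exists_conj_le_hall hH (zpowers_le.mpr hg) (fun r hr hd => by
    rw [Nat.card_zpowers, hgo] at hd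
    rcases hr.dvd_mul.mp hd with h | h
    · exact ((Nat.prime_dvd_prime_iff_eq hr ha).mp h).symm ▸ haπ
    · exact ((Nat.prime_dvd_prime_iff_eq hr hb).mp h).symm ▸ hbπ)
  refine ⟨k * g ^ b * k⁻¹, hk _ (pow_mem (mem_zpowers g) b), k * g ^ a * k⁻¹,
    hk _ (pow_mem (mem_zpowers g) a), ?_, ?_, (Commute.conj_iff k).mpr ((Commute.refl g).pow_pow b a)⟩
  · rw [orderOf_conj, orderOf_pow_of_dvd hb.pos.ne' (hgo ▸ dvd_mul_left b a), hgo,
      Nat.mul_div_cancel _ hb.pos]
  · rw [orderOf_conj, orderOf_pow_of_dvd ha.pos.ne' (hgo ▸ dvd_mul_right a b), hgo,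
      Nat.mul_div_cancel_left _ ha.pos]

/-- Two-rank subgroups of a subgroup transfer to its Hall subgroups. -/
theorem exists_twoRank_hall {π : Set ℕ} {H K : Subgroup G} (hH : Cfsg.IsPiHallOf π H K) {a : ℕ}
    (ha : a.Prime) (haπ : a ∈ π) (hE : ∃ E : Subgroup G, E ≤ K ∧ TwoRank E a) :
    ∃ E : Subgroup G, E ≤ H ∧ TwoRank E a := by
  obtain ⟨E, hEK, hE⟩ := hE
  obtain ⟨k, -, hk⟩ := exists_conj_le_hall hH hEK (fun r hr hd => by
    rw [hE.card_eq] at hd
    exact ((Nat.prime_dvd_prime_iff_eq hr ha).mp (hr.dvd_of_dvd_pow hd)).symm ▸ haπ)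
  refine ⟨E.map (MulAut.conj k).toMonoidHom, ?_, hE.map k⟩
  rintro _ ⟨x, hx, rfl⟩
  exact hk x hx

theorem not_isSolvable {σ : Finset ℕ} (hσ : σ.card = 4) (hprime : ∀ p ∈ σ, p.Prime)
    (h2 : ∀ p ∈ σ, ∀ q ∈ σ, p ≠ q → ∃ g : G, orderOf g = p * q)
    (h3 : ∀ p ∈ σ, ∀ q ∈ σ, ∀ r ∈ σ, p ≠ q → q ≠ r → p ≠ r → ∀ g : G, orderOf g ≠ p * q * r) :
    False := by
  classical
  have htriple : ∀ {a b c : G}, orderOf a ∈ σ → orderOf b ∈ σ → orderOf c ∈ σ →
      orderOf a ≠ orderOf b → orderOf b ≠ orderOf c → orderOf a ≠ orderOf c →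
      Commute a b → Commute a c → Commute b c → False := by
    intro a b c ha hb hc hab hbc hac cab cac cbc
    have hcop : ∀ {m n : ℕ}, m ∈ σ → n ∈ σ → m ≠ n → m.Coprime n := fun hm hn h =>
      (Nat.coprime_primes (hprime _ hm) (hprime _ hn)).mpr h
    have h1 := cab.orderOf_mul_eq_mul_orderOf_of_coprime (hcop ha hb hab)
    refine h3 _ ha _ hb _ hc hab hbc hac (a * b * c) ?_
    rw [(cac.mul_left cbc).orderOf_mul_eq_mul_orderOf_of_coprime
      (by rw [h1]; exact Nat.Coprime.mul_left (hcop ha hc hac) (hcop hb hc hbc)), h1]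
  obtain ⟨G₀, hG₀⟩ := Coprime.exists_isPiHallOf (K := (⊤ : Subgroup G)) inferInstance (↑σ : Set ℕ)
  have hsupp : ∀ r : ℕ, r.Prime → r ∣ Nat.card G₀ → r ∈ σ := fun r hr hd =>
    Finset.mem_coe.mp (hG₀.2.1 r hr hd)
  have hpair : ∀ a ∈ σ, ∀ b ∈ σ, a ≠ b →
      ∃ x ∈ G₀, ∃ y ∈ G₀, orderOf x = a ∧ orderOf y = b ∧ Commute x y := fun a ha b hb hab => by
    obtain ⟨g, hg⟩ := h2 a ha b hb hab
    exact exists_pair_hall hG₀ (hprime a ha) (hprime b hb) (Finset.mem_coe.mpr ha)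
      (Finset.mem_coe.mpr hb) (mem_top g) hg
  -- every prime has two-rank
  have htwo : ∀ a ∈ σ, ∃ E : Subgroup G, E ≤ G₀ ∧ TwoRank E a := by
    intro a ha
    refine (twoRank_or_conj (hprime a ha) G₀).resolve_right fun hconj => ?_
    have hne : (σ.erase a).Nonempty := by
      rw [← Finset.card_pos, Finset.card_erase_of_mem ha, hσ]; omega
    obtain ⟨b₀, hb₀⟩ := hne
    obtain ⟨e, he, -, -, heo, -, -⟩ :=
      hpair a ha b₀ (Finset.mem_of_mem_erase hb₀) (Finset.ne_of_mem_erase hb₀).symm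
    set C := G₀ ⊓ centralizer ({e} : Set G) with hC
    have hmemC : ∀ r ∈ σ.erase a, r.Prime ∧ r ∣ Nat.card C := by
      intro r hr
      obtain ⟨hra, hrσ⟩ := Finset.mem_erase.mp hr
      refine ⟨hprime r hrσ, ?_⟩
      obtain ⟨x, hx, y, hy, hxo, hyo, hxy⟩ := hpair a ha r hrσ hra.symm
      obtain ⟨k, hk, hkx⟩ := hconj x hx e he hxo heo
      have h1 := mul_conj_mem_zpowers (hprime a ha) heo hxo hkx
      obtain ⟨c, hc, hce⟩ : e ∈ (zpowers x).map (MulAut.conj k).toMonoidHom :=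
        h1.symm ▸ mem_zpowers e
      obtain ⟨i, rfl⟩ := mem_zpowers_iff.mp hc
      have hyC : k * y * k⁻¹ ∈ C := by
        refine ⟨G₀.mul_mem (G₀.mul_mem hk hy) (G₀.inv_mem hk), mem_centralizer_singleton_iff.mpr ?_⟩
        rw [← hce]
        exact ((Commute.conj_iff k).mpr (hxy.symm.zpow_right i)).eq
      have h2 := Subgroup.orderOf_dvd_natCard C hyC
      rwa [orderOf_conj, hyo] at h2
    have hclique : ∀ r ∈ σ.erase a, ∀ s ∈ σ.erase a, r ≠ s → ¬ ∃ x : C, orderOf x = r * s := by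
      rintro r hr s hs hrs ⟨x, hx⟩
      obtain ⟨hra, hrσ⟩ := Finset.mem_erase.mp hr
      obtain ⟨hsa, hsσ⟩ := Finset.mem_erase.mp hs
      have hx' : orderOf (x : G) = r * s := by rw [orderOf_coe, hx]
      have hr0 := (hprime r hrσ).pos
      have hs0 := (hprime s hsσ).pos
      have o1 : orderOf ((x : G) ^ s) = r := by
        rw [orderOf_pow_of_dvd hs0.ne' (hx' ▸ dvd_mul_left s r), hx', Nat.mul_div_cancel _ hs0]
      have o2 : orderOf ((x : G) ^ r) = s := by
        rw [orderOf_pow_of_dvd hr0.ne' (hx' ▸ dvd_mul_right r s), hx', Nat.mul_div_cancel_left _ hr0]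
      have hxe : Commute (x : G) e := mem_centralizer_singleton_iff.mp x.2.2
      exact htriple (a := e) (b := (x : G) ^ s) (c := (x : G) ^ r) (heo ▸ ha) (o1 ▸ hrσ) (o2 ▸ hsσ)
        (by rw [heo, o1]; exact hra.symm) (by rw [o1, o2]; exact hrs)
        (by rw [heo, o2]; exact hsa.symm)
        (hxe.symm.pow_right s) (hxe.symm.pow_right r) ((Commute.refl (x : G)).pow_pow s r)
    have hcard : 3 ≤ (σ.erase a).card := by rw [Finset.card_erase_of_mem ha, hσ]
    obtain ⟨r, hr, s, hs, hrs⟩ := Finset.one_lt_card.mp (by omega : 1 < (σ.erase a).card)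
    refine hrs (PrimeGraph.coclique_solvable_normal (G := C) (σ.erase a) hcard hmemC hclique
      ⊤ inferInstance r hr s hs ?_ ?_)
    · rw [card_top]; exact (hmemC r hr).2
    · rw [card_top]; exact (hmemC s hs).2
  -- the cores
  set S := σ.filter (fun r => core r G₀ ≠ ⊥) with hS
  have hbot : ∀ r : ℕ, r.Prime → r ∉ S → core r G₀ = ⊥ := by
    intro r hr hrS
    by_contra hne
    have := Fact.mk hr
    exact hrS (Finset.mem_filter.mpr ⟨hsupp r hr ((((isPGroup_core r G₀).card_eq_or_dvd).resolve_left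
      fun h => hne (card_eq_one.mp h)).trans (card_dvd_of_le (core_le r G₀))), hne⟩)
  have hmemS : ∀ r ∈ S, ∃ x ∈ core r G₀, orderOf x = r := by
    intro r hr
    obtain ⟨hrσ, hne⟩ := Finset.mem_filter.mp hr
    obtain ⟨x, hx, hxo, -⟩ :=
      exists_central_orderOf (hprime r hrσ) (isPGroup_core r G₀) le_rfl le_normalizer hne
    exact ⟨x, hx, hxo⟩
  have hcomm : ∀ r ∈ σ, ∀ s ∈ σ, r ≠ s → ∀ x ∈ core r G₀, ∀ y ∈ core s G₀, Commute x y := by
    intro r hr s hs hrs x hx y hy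
    have := Fact.mk (hprime r hr)
    have := Fact.mk (hprime s hs)
    have hd := disjoint_iff.mp (IsPGroup.disjoint_of_ne r s hrs _ _ (isPGroup_core r G₀) (isPGroup_core s G₀))
    refine commutatorElement_eq_one_iff_commute.mp (mem_bot.mp (hd ▸ ⟨?_, ?_⟩))
    · rw [show ⁅x, y⁆ = x * (y * x⁻¹ * y⁻¹) by rw [commutatorElement_def]; group]
      exact (core r G₀).mul_mem hx
        ((mem_normalizer_iff.mp (le_normalizer_core r G₀ (core_le s G₀ hy)) _).mp ((core r G₀).inv_mem hx))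
    · rw [commutatorElement_def]
      exact (core s G₀).mul_mem
        ((mem_normalizer_iff.mp (le_normalizer_core s G₀ (core_le r G₀ hx)) _).mp hy) ((core s G₀).inv_mem hy)
  have hS3 : S.card ≤ 2 := by
    by_contra hlt
    obtain ⟨T, hTS, hT⟩ := Finset.exists_subset_card_eq (s := S) (n := 3) (by omega)
    obtain ⟨a, b, c, hab, hac, hbc, rfl⟩ := Finset.card_eq_three.mp hT
    obtain ⟨x, hx, hxo⟩ := hmemS a (hTS (by simp))
    obtain ⟨y, hy, hyo⟩ := hmemS b (hTS (by simp))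
    obtain ⟨z, hz, hzo⟩ := hmemS c (hTS (by simp))
    have hm : ∀ {r}, r ∈ ({a, b, c} : Finset ℕ) → r ∈ σ := fun h => (Finset.mem_filter.mp (hTS h)).1
    have ha' : a ∈ σ := hm (by simp)
    have hb' : b ∈ σ := hm (by simp)
    have hc' : c ∈ σ := hm (by simp)
    exact htriple (hxo ▸ ha') (hyo ▸ hb') (hzo ▸ hc') (by rw [hxo, hyo]; exact hab)
      (by rw [hyo, hzo]; exact hbc) (by rw [hxo, hzo]; exact hac)
      (hcomm a ha' b hb' hab x hx y hy) (hcomm a ha' c hc' hac x hx z hz)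
      (hcomm b hb' c hc' hbc y hy z hz)
  have hS1 : 1 ≤ S.card := by
    obtain ⟨a, ha⟩ := Finset.card_pos.mp (by omega : 0 < σ.card)
    obtain ⟨E, hE, hE2⟩ := htwo a ha
    have hne : G₀ ≠ ⊥ := fun hb => hE2.not_isCyclic (hprime a ha) (by
      rw [le_bot_iff.mp (hE.trans hb.le)]; infer_instance)
    obtain ⟨r, hr, hrd, hr'⟩ := exists_core_ne_bot hne
    exact Finset.card_pos.mpr ⟨r, Finset.mem_filter.mpr ⟨hsupp r hr hrd, hr'⟩⟩
  -- the complementary Hall subgroup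
  obtain ⟨H, hH⟩ := Coprime.exists_isPiHallOf (K := G₀) inferInstance (↑(σ \ S) : Set ℕ)
  have hHsupp : ∀ r : ℕ, r.Prime → r ∣ Nat.card H → r ∈ σ \ S := fun r hr hd =>
    Finset.mem_coe.mp (hH.2.1 r hr hd)
  have hHpair : ∀ a ∈ σ \ S, ∀ b ∈ σ \ S, a ≠ b →
      ∃ x ∈ H, ∃ y ∈ H, orderOf x = a ∧ orderOf y = b ∧ Commute x y := by
    intro a ha b hb hab
    obtain ⟨x, hx, y, hy, hxo, hyo, hxy⟩ :=
      hpair a (Finset.mem_sdiff.mp ha).1 b (Finset.mem_sdiff.mp hb).1 hab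
    refine exists_pair_hall hH (hprime a (Finset.mem_sdiff.mp ha).1) (hprime b (Finset.mem_sdiff.mp hb).1)
      (Finset.mem_coe.mpr ha) (Finset.mem_coe.mpr hb) (G₀.mul_mem hx hy) ?_
    rw [hxy.orderOf_mul_eq_mul_orderOf_of_coprime, hxo, hyo]
    rw [hxo, hyo]
    exact (Nat.coprime_primes (hprime a (Finset.mem_sdiff.mp ha).1)
      (hprime b (Finset.mem_sdiff.mp hb).1)).mpr hab
  have hHtwo : ∀ a ∈ σ \ S, ∃ E : Subgroup G, E ≤ H ∧ TwoRank E a := fun a ha =>
    exists_twoRank_hall hH (hprime a (Finset.mem_sdiff.mp ha).1) (Finset.mem_coe.mpr ha)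
      (htwo a (Finset.mem_sdiff.mp ha).1)
  have hmkAct : ∀ p ∈ S, Act p (core p G₀) H := by
    intro p hp
    obtain ⟨hpσ, hpne⟩ := Finset.mem_filter.mp hp
    refine ⟨hprime p hpσ, isPGroup_core p G₀, hpne, hH.1.trans (le_normalizer_core p G₀),
      fun hd => (Finset.mem_sdiff.mp (hHsupp p (hprime p hpσ) hd)).2 hp,
      fun x hx y hy hxp hyp hxy cxy v hv hxv hyv => ?_⟩
    by_contra hv1
    obtain ⟨k, hk⟩ := exists_pow_orderOf (hprime p hpσ) (isPGroup_core p G₀) hv hv1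
    obtain ⟨hxσ, hxS⟩ := Finset.mem_sdiff.mp (hHsupp _ hxp (Subgroup.orderOf_dvd_natCard H hx))
    obtain ⟨hyσ, hyS⟩ := Finset.mem_sdiff.mp (hHsupp _ hyp (Subgroup.orderOf_dvd_natCard H hy))
    exact htriple (c := v ^ k) hxσ hyσ (hk.symm ▸ hpσ) hxy
      (fun h => hyS (by rw [h, hk]; exact hp)) (fun h => hxS (by rw [h, hk]; exact hp))
      cxy (hxv.pow_right k) (hyv.pow_right k)
  have hfaith : ∀ x ∈ H, (∀ p ∈ S, ∀ v ∈ core p G₀, Commute x v) → x = 1 := by
    intro x hx hall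
    by_contra hx1
    obtain ⟨r, hr, hrd⟩ := Nat.exists_prime_and_dvd (mt orderOf_eq_one_iff.mp hx1)
    have := Fact.mk hr
    have hpow : orderOf (x ^ (orderOf x / r)) = r :=
      orderOf_pow_orderOf_div (orderOf_pos x).ne' hrd
    have hmem := mem_core_of_commute (hH.1 (pow_mem hx (orderOf x / r))) (u := r) (n := 1)
      (by rw [pow_one]; exact orderOf_dvd_iff_pow_eq_one.mp (dvd_of_eq hpow)) fun t ht y hy => by
        by_cases htS : t ∈ S
        · exact (hall t htS y hy).pow_left _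
        · rw [hbot t ht htS, mem_bot] at hy
          subst hy
          exact Commute.one_right _
    rw [hbot r hr (Finset.mem_sdiff.mp (hHsupp r hr
      (hrd.trans (Subgroup.orderOf_dvd_natCard H hx)))).2, mem_bot] at hmem
    rw [hmem, orderOf_one] at hpow
    exact hr.ne_one hpow.symm
  have hsubS : S ⊆ σ := Finset.filter_subset _ _
  have hdiff : (σ \ S).card + S.card = 4 := by rw [Finset.card_sdiff_add_card_eq_card hsubS, hσ]
  rcases Nat.lt_or_ge S.card 2 with hc | hc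
  · -- one prime
    obtain ⟨p, hSp⟩ := Finset.card_eq_one.mp (by omega : S.card = 1)
    obtain ⟨t, u, w, htu, htw, huw, hT⟩ := Finset.card_eq_three.mp (by omega : (σ \ S).card = 3)
    have hm : ∀ {r}, r ∈ ({t, u, w} : Finset ℕ) → r ∈ σ \ S := fun h => hT ▸ h
    have ht : t ∈ σ \ S := hm (by simp)
    have hu : u ∈ σ \ S := hm (by simp)
    have hw : w ∈ σ \ S := hm (by simp)
    have hpS : p ∈ S := by rw [hSp]; simp
    refine One.absurd_one (p := p) (t := t) (u := u) (w := w) (P := core p G₀) (H := H)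
      ⟨hmkAct p hpS, fun x hx hv => hfaith x hx fun q hq => ?_,
        ⟨hprime t (Finset.mem_sdiff.mp ht).1, hprime u (Finset.mem_sdiff.mp hu).1,
          hprime w (Finset.mem_sdiff.mp hw).1⟩, ⟨htu, htw, huw⟩, fun r hr hd => ?_,
        ⟨hHpair t ht u hu htu, hHpair t ht w hw htw, hHpair u hu w hw huw⟩,
        ⟨hHtwo t ht, hHtwo u hu, hHtwo w hw⟩,
        fun a _ b _ c _ hao hbo hco cab cac cbc => htriple (hao ▸ (Finset.mem_sdiff.mp ht).1)
          (hbo ▸ (Finset.mem_sdiff.mp hu).1) (hco ▸ (Finset.mem_sdiff.mp hw).1)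
          (by rw [hao, hbo]; exact htu) (by rw [hbo, hco]; exact huw)
          (by rw [hao, hco]; exact htw) cab cac cbc⟩
    · rw [hSp, Finset.mem_singleton] at hq
      subst hq
      exact hv
    · have := hHsupp r hr hd
      rw [hT] at this
      simpa using this
  · -- two primes
    obtain ⟨p, q, hpq, hSpq⟩ := Finset.card_eq_two.mp (by omega : S.card = 2)
    obtain ⟨r, s, hrs, hT⟩ := Finset.card_eq_two.mp (by omega : (σ \ S).card = 2)
    have hr : r ∈ σ \ S := by rw [hT]; simp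
    have hs : s ∈ σ \ S := by rw [hT]; simp
    have hpS : p ∈ S := by rw [hSpq]; simp
    have hqS : q ∈ S := by rw [hSpq]; simp
    refine two_false (hmkAct p hpS) (hmkAct q hqS) (hprime r (Finset.mem_sdiff.mp hr).1)
      (hprime s (Finset.mem_sdiff.mp hs).1) hrs (fun t ht hd => ?_) ?_
      (fun x hx hP hQ => hfaith x hx fun t ht => ?_) (hHtwo r hr) (hHtwo s hs)
    · have := hHsupp t ht hd
      rw [hT] at this
      simpa using this
    · intro x hx hxp ⟨v, hv, hv1, hxv⟩ ⟨v', hv', hv'1, hxv'⟩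
      obtain ⟨k, hk⟩ := exists_pow_orderOf (hprime p (hsubS hpS)) (isPGroup_core p G₀) hv hv1
      obtain ⟨l, hl⟩ := exists_pow_orderOf (hprime q (hsubS hqS)) (isPGroup_core q G₀) hv' hv'1
      obtain ⟨hxσ, hxS⟩ := Finset.mem_sdiff.mp (hHsupp _ hxp (Subgroup.orderOf_dvd_natCard H hx))
      exact htriple (b := v ^ k) (c := v' ^ l) hxσ (hk.symm ▸ hsubS hpS) (hl.symm ▸ hsubS hqS)
        (fun h => hxS (by rw [h, hk]; exact hpS)) (by rw [hk, hl]; exact hpq)
        (fun h => hxS (by rw [h, hl]; exact hqS)) (hxv.pow_right k) (hxv'.pow_right l)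
        ((hcomm p (hsubS hpS) q (hsubS hqS) hpq v hv v' hv').pow_pow k l)
    · rw [hSpq] at ht
      simp only [Finset.mem_insert, Finset.mem_singleton] at ht
      rcases ht with rfl | rfl
      · exact hP
      · exact hQ

end Cfsg.Agent.FourPrimes
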