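import Cfsg.Agent.FourPrimes.Two

/-!
The one-prime case of the four primes criterion: the setting and the common lemmas.
-/

set_option autoImplicit false
set_option linter.unusedSectionVars false

namespace Cfsg.Agent.FourPrimes

open Subgroup
open scoped commutatorElement Pointwise

universe u

variable {G : Type u} [Group G] [Finite G]

/-- A nontrivial element of a `u`-group has a power of order `u`. -/
theorem exists_pow_orderOf {u : ℕ} (hu : u.Prime) {X : Subgroup G} (hX : IsPGroup u X) {x : G}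
    (hx : x ∈ X) (hx1 : x ≠ 1) : ∃ k : ℕ, orderOf (x ^ k) = u := by
  have := Fact.mk hu
  obtain ⟨n, hn⟩ := hX.exists_card_eq
  obtain ⟨m, -, hm⟩ := (Nat.dvd_prime_pow hu).mp (hn ▸ Subgroup.orderOf_dvd_natCard X hx)
  have hm0 : m ≠ 0 := fun h => hx1 (orderOf_eq_one_iff.mp (by rw [hm, h, pow_zero]))
  refine ⟨u ^ (m - 1), ?_⟩
  rw [orderOf_pow_of_dvd (pow_ne_zero _ hu.pos.ne') (by rw [hm]; exact pow_dvd_pow u (Nat.sub_le m 1)),
    hm, Nat.pow_div (Nat.sub_le m 1) hu.pos, Nat.sub_sub_self (by omega), pow_one]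

/-- If all elements of order `u` of a subgroup are conjugate up to powers, a `w`-subgroup
normalising it normalises one of those subgroups of order `u`, provided `w` does not divide the
index of a subgroup normalising `zpowers x`. -/
theorem exists_normalized_conj {u w : ℕ} [Fact w.Prime] (hu : u.Prime) {C M : Subgroup G} {x : G}
    (hxC : x ∈ C) (hx : orderOf x = u) (hMC : M ≤ C)
    (hMx : M ≤ normalizer (zpowers x : Set G)) (hidx : ¬ w ∣ M.relIndex C)
    (hconj : ∀ y ∈ C, ∀ z ∈ C, orderOf y = u → orderOf z = u → ∃ k ∈ C, k * y * k⁻¹ ∈ zpowers z)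
    {E : Subgroup G} (hE : IsPGroup w E) (hEC : E ≤ normalizer (C : Set G)) :
    ∃ d ∈ C, E ≤ normalizer (zpowers (d * x * d⁻¹) : Set G) := by
  classical
  set N := normalizer (zpowers x : Set G) with hN
  let Ω := {X : Subgroup G // ∃ d ∈ C, X = zpowers (d * x * d⁻¹)}
  have hzc : ∀ d : G, zpowers (d * x * d⁻¹) = MulAut.conj d • zpowers x := fun d => by
    rw [Coprime.conj_smul_eq_map, MonoidHom.map_zpowers]; rfl
  have hiff : ∀ d d' : G, zpowers (d * x * d⁻¹) = zpowers (d' * x * d'⁻¹) ↔ d⁻¹ * d' ∈ N := by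
    intro d d'
    constructor
    · intro h
      refine Coprime.mem_normalizer_of_conj_smul_eq ?_
      rw [map_mul, mul_smul, ← hzc d', ← h, hzc d, map_inv, inv_smul_smul]
    · intro h
      have h1 := Coprime.conj_smul_eq_self_of_mem_normalizer h
      rw [hzc, hzc]
      conv_lhs => rw [← h1]
      rw [← mul_smul, ← map_mul, mul_inv_cancel_left]
  let f : C ⧸ (N.subgroupOf C) → Ω := fun q => Quotient.liftOn' q
    (fun d : C => (⟨zpowers ((d : G) * x * (d : G)⁻¹), d, d.2, rfl⟩ : Ω))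
    (fun a b h => Subtype.ext ((hiff a b).mpr (by
      have := QuotientGroup.leftRel_apply.mp h
      simpa [mem_subgroupOf] using this)))
  have hf : Function.Bijective f := by
    refine ⟨fun a b h => ?_, fun ⟨X, d, hd, hX⟩ => ⟨QuotientGroup.mk ⟨d, hd⟩, Subtype.ext hX.symm⟩⟩
    induction a using QuotientGroup.induction_on with
    | _ a =>
    induction b using QuotientGroup.induction_on with
    | _ b =>
    refine QuotientGroup.eq.mpr ?_
    simpa [mem_subgroupOf] using (hiff a b).mp (congrArg Subtype.val h)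
  have hcard : Nat.card Ω = N.relIndex C := by
    rw [← Nat.card_congr (Equiv.ofBijective f hf)]; rfl
  have hΩ : ¬ w ∣ Nat.card Ω := fun h => hidx (by
    rw [hcard] at h
    exact h.trans (relIndex_dvd_of_le_left C hMx))
  have hstab : ∀ (e : E) (X : Ω), ∃ d ∈ C, MulAut.conj (e : G) • (X : Subgroup G) =
      zpowers (d * x * d⁻¹) := by
    rintro e ⟨X, d, hd, rfl⟩
    have he := hEC e.2
    have hex : (e : G) * x * (e : G)⁻¹ ∈ C := (mem_normalizer_iff.mp he x).mp hxC
    obtain ⟨k, hk, hkx⟩ := hconj _ hex x hxC (by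
      rw [← MulAut.conj_apply, ← MulEquiv.coe_toMonoidHom,
        orderOf_injective _ (MulAut.conj (e : G)).injective, hx]) hx
    refine ⟨(e : G) * d * (e : G)⁻¹ * k⁻¹, C.mul_mem ((mem_normalizer_iff.mp he d).mp hd)
      (C.inv_mem hk), ?_⟩
    have hkx' := mul_conj_mem_zpowers hu hx (y := (e : G) * x * (e : G)⁻¹) (by
      rw [← MulAut.conj_apply, ← MulEquiv.coe_toMonoidHom,
        orderOf_injective _ (MulAut.conj (e : G)).injective, hx]) hkx
    change MulAut.conj (e : G) • zpowers (d * x * d⁻¹) = _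
    rw [hzc, hzc]
    conv_rhs => rw [← hkx', ← Coprime.conj_smul_eq_map, hzc]
    rw [← mul_smul, ← mul_smul, ← mul_smul, ← map_mul, ← map_mul, ← map_mul]
    congr 2
    group
  letI : MulAction E Ω :=
    { smul := fun e X => ⟨MulAut.conj (e : G) • (X : Subgroup G), hstab e X⟩
      one_smul := fun X => Subtype.ext (by
        change MulAut.conj ((1 : E) : G) • (X : Subgroup G) = X
        simp)
      mul_smul := fun a b X => Subtype.ext (by
        change MulAut.conj ((a * b : E) : G) • (X : Subgroup G) =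
          MulAut.conj (a : G) • (MulAut.conj (b : G) • (X : Subgroup G))
        rw [Subgroup.coe_mul, map_mul, mul_smul]) }
  obtain ⟨⟨X, d, hd, hX⟩, hfix⟩ := hE.nonempty_fixed_point_of_prime_not_dvd_card Ω hΩ
  refine ⟨d, hd, fun e he => Coprime.mem_normalizer_of_conj_smul_eq ?_⟩
  have := congrArg Subtype.val (hfix ⟨e, he⟩)
  subst hX
  exact this

/-- A fixed-point-free element on `X` modulo a central subgroup forces `X` to centralise the
abelian-modulo-`Z` group `A` modulo `Z`. -/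
theorem commutator_mem_of_fpf [Group.IsSolvable G] {w : ℕ} (hw : w.Prime) {z g : G}
    (hg : orderOf g = w) {A X : Subgroup G} (hAz : ∀ a ∈ A, Commute a z)
    (hXz : ∀ x ∈ X, Commute x z) (hgz : Commute g z) (hgA : g ∈ normalizer (A : Set G))
    (hgX : g ∈ normalizer (X : Set G)) (hXA : X ≤ normalizer (A : Set G))
    (hwA : ¬ w ∣ Nat.card A) (hwX : ¬ w ∣ Nat.card X)
    (hcop : (Nat.card X).Coprime (Nat.card A)) (hfA : ∀ a ∈ A, Commute g a → a ∈ zpowers z)
    (hfX : ∀ x ∈ X, Commute g x → x ∈ zpowers z) (hAA : ∀ a ∈ A, ∀ b ∈ A, ⁅a, b⁆ ∈ zpowers z) :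
    ∀ x ∈ X, ∀ a ∈ A, ⁅x, a⁆ ∈ zpowers z := by
  classical
  let N := centralizer ({z} : Set G)
  have hN : ∀ {y : G}, Commute y z → y ∈ N := fun h => mem_centralizer_singleton_iff.mpr h.eq
  let Z : Subgroup N := (zpowers z).subgroupOf N
  have hZn : Z.Normal := ⟨fun n hn c => by
    rw [mem_subgroupOf] at hn ⊢
    obtain ⟨i, hi⟩ := mem_zpowers_iff.mp hn
    have hc : Commute (c : G) z := mem_centralizer_singleton_iff.mp c.2
    simp only [Subgroup.coe_mul, InvMemClass.coe_inv]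
    rw [← hi, ((hc.zpow_right i)).eq, mul_inv_cancel_right]
    exact mem_zpowers_iff.mpr ⟨i, rfl⟩⟩
  let π := QuotientGroup.mk' Z
  let A' := A.subgroupOf N
  let X' := X.subgroupOf N
  let g' : N := ⟨g, hN hgz⟩
  have hU : IsMulCommutative (A'.map π) := by
    refine ⟨⟨?_⟩⟩
    rintro ⟨_, a, ha, rfl⟩ ⟨_, b, hb, rfl⟩
    refine Subtype.ext ?_
    change π a * π b = π b * π a
    refine commutatorElement_eq_one_iff_commute.mp ?_
    rw [← map_commutatorElement, QuotientGroup.mk'_apply, QuotientGroup.eq_one_iff]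
    exact mem_subgroupOf.mpr (hAA _ (mem_subgroupOf.mp ha) _ (mem_subgroupOf.mp hb))
  have hnorm : ∀ {Y : Subgroup G} {y : N}, (y : G) ∈ normalizer (Y : Set G) →
      y ∈ normalizer ((Y.subgroupOf N : Subgroup N) : Set N) := fun {Y y} hy =>
    mem_normalizer_iff.mpr fun v => by
      simp only [mem_subgroupOf, Subgroup.coe_mul, InvMemClass.coe_inv]
      exact mem_normalizer_iff.mp hy _
  have hgA' : g' ∈ normalizer (A' : Set N) := hnorm hgA
  have hgX' : g' ∈ normalizer (X' : Set N) := hnorm hgX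
  have hpre : ∀ {Y : Subgroup G}, (∀ y ∈ Y, Commute y z) →
      (∀ y ∈ Y, Commute g y → y ∈ zpowers z) → ¬ w ∣ Nat.card Y → g ∈ normalizer (Y : Set G) →
      (Y.subgroupOf N).map π ⊓ centralizer {π g'} = ⊥ := by
    intro Y hYz hfY hwY hgY
    refine le_bot_iff.mp ?_
    rintro _ ⟨⟨y, hy, rfl⟩, hc⟩
    set Y' := Y.subgroupOf N
    set Z' := Y' ⊓ Z with hZ'
    have hgZ : g' ∈ normalizer (Z : Set N) := by
      rw [normalizer_eq_top]; trivial
    have hgY' : g' ∈ normalizer (Y' : Set N) := hnorm hgY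
    have hcy : y⁻¹ * (g' * y * g'⁻¹) ∈ Z' := by
      refine ⟨Y'.mul_mem (Y'.inv_mem hy) ((mem_normalizer_iff.mp hgY' y).mp hy), ?_⟩
      show y⁻¹ * (g' * y * g'⁻¹) ∈ Z
      rw [← QuotientGroup.eq_one_iff, QuotientGroup.mk_mul, QuotientGroup.mk_mul,
        QuotientGroup.mk_mul, QuotientGroup.mk_inv, QuotientGroup.mk_inv]
      have h := mem_centralizer_singleton_iff.mp hc
      change π y * π g' = π g' * π y at h
      change (π y)⁻¹ * (π g' * π y * (π g')⁻¹) = 1
      rw [← h]; group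
    have hgo : g' ^ w = 1 := Subtype.ext (by simp [g', ← hg, pow_orderOf_eq_one])
    obtain ⟨n, hn, hnc⟩ := Coprime.exists_fixed_mem_leftCoset (A := zpowers g') (N := Z')
      (zpowers_le.mpr (mem_normalizer_iff.mpr fun v => by
        rw [hZ', mem_inf, mem_inf, ← mem_normalizer_iff.mp hgY' v, ← mem_normalizer_iff.mp hgZ v]))
      (by
        rw [Nat.card_zpowers]
        have h1 : orderOf g' = w := by rw [← orderOf_coe, ← hg]
        rw [h1]
        refine hw.coprime_iff_not_dvd.mpr fun h => hwY ?_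
        refine h.trans ((card_dvd_of_le (inf_le_left : Z' ≤ Y')).trans ?_)
        rw [Coprime.card_subgroupOf (fun y hy => hN (hYz y hy))])
      (Or.inl (Group.isSolvable_of_comm fun a b => IsMulCommutative.is_comm.comm a b))
      (k := y) (fun a ha => by
        obtain ⟨i, rfl⟩ := mem_powers_iff_mem_zpowers.mpr ha
        simp only
        clear ha
        induction i with
        | zero => simp
        | succ i ih =>
          have e : y⁻¹ * (g' ^ (i + 1) * y * (g' ^ (i + 1))⁻¹) =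
              (y⁻¹ * (g' * y * g'⁻¹)) * (g' * (y⁻¹ * (g' ^ i * y * (g' ^ i)⁻¹)) * g'⁻¹) := by
            rw [pow_succ']; group
          rw [e]
          refine Z'.mul_mem hcy ?_
          obtain ⟨ih1, ih2⟩ := ih
          exact ⟨(mem_normalizer_iff.mp hgY' _).mp ih1, (mem_normalizer_iff.mp hgZ _).mp ih2⟩)
    have hcomm : Commute g' (y * n) := mem_centralizer_iff.mp hnc g' (mem_zpowers g')
    have hyn : (y * n : N) ∈ Z := mem_subgroupOf.mpr (hfY _ (Y.mul_mem (mem_subgroupOf.mp hy)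
      (mem_subgroupOf.mp hn.1)) (congrArg Subtype.val hcomm.eq))
    rw [mem_bot, QuotientGroup.mk'_apply, QuotientGroup.eq_one_iff]
    simpa using Z.mul_mem hyn (Z.inv_mem hn.2)
  have hAle : A ≤ N := fun a ha => hN (hAz a ha)
  have hXle : X ≤ N := fun x hx => hN (hXz x hx)
  have hmain := FixedPointFree.le_centralizer_of_frobenius (U := A'.map π) (X := X'.map π) hw
    (c := π g') (by rw [← map_pow, show g' ^ w = 1 from Subtype.ext (by
      simp [g', ← hg, pow_orderOf_eq_one]), map_one])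
    (by
      rintro _ ⟨x, hx, rfl⟩
      refine le_normalizer_map π ⟨x, ?_, rfl⟩
      exact hnorm (hXA (mem_subgroupOf.mp hx)))
    (le_normalizer_map π ⟨g', hgA', rfl⟩) (le_normalizer_map π ⟨g', hgX', rfl⟩)
    (by
      refine (hcop.coprime_dvd_left ?_).coprime_dvd_right ?_
      · exact (card_map_dvd _ π).trans (Coprime.card_subgroupOf hXle).dvd
      · exact (card_map_dvd _ π).trans (Coprime.card_subgroupOf hAle).dvd)
    (hpre hAz hfA hwA hgA) (hpre hXz hfX hwX hgX)
  intro x hx a ha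
  have h := mem_centralizer_iff.mp (hmain (mem_map_of_mem π
    (mem_subgroupOf.mpr hx : (⟨x, hXle hx⟩ : N) ∈ X'))) _
    (mem_map_of_mem π (mem_subgroupOf.mpr ha : (⟨a, hAle ha⟩ : N) ∈ A'))
  have h2 : π ⁅(⟨x, hXle hx⟩ : N), ⟨a, hAle ha⟩⁆ = 1 := by
    rw [map_commutatorElement, commutatorElement_eq_one_iff_commute]
    exact h.symm
  rw [QuotientGroup.mk'_apply, QuotientGroup.eq_one_iff] at h2
  exact mem_subgroupOf.mp h2

variable [Group.IsSolvable G]

/-- The one-prime setting. -/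
structure One (p t u w : ℕ) (P H : Subgroup G) : Prop where
  act : Act p P H
  faith : ∀ x ∈ H, (∀ v ∈ P, Commute x v) → x = 1
  primes : t.Prime ∧ u.Prime ∧ w.Prime
  ne : t ≠ u ∧ t ≠ w ∧ u ≠ w
  support : ∀ r : ℕ, r.Prime → r ∣ Nat.card H → r = t ∨ r = u ∨ r = w
  pairs : (∃ a ∈ H, ∃ b ∈ H, orderOf a = t ∧ orderOf b = u ∧ Commute a b) ∧
    (∃ a ∈ H, ∃ b ∈ H, orderOf a = t ∧ orderOf b = w ∧ Commute a b) ∧
    (∃ a ∈ H, ∃ b ∈ H, orderOf a = u ∧ orderOf b = w ∧ Commute a b)
  two : (∃ E : Subgroup G, E ≤ H ∧ TwoRank E t) ∧ (∃ E : Subgroup G, E ≤ H ∧ TwoRank E u) ∧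
    (∃ E : Subgroup G, E ≤ H ∧ TwoRank E w)
  triple : ∀ a ∈ H, ∀ b ∈ H, ∀ c ∈ H, orderOf a = t → orderOf b = u → orderOf c = w →
    Commute a b → Commute a c → Commute b c → False

namespace One

variable {p t u w : ℕ} {P H : Subgroup G}

theorem swap (h : One p t u w P H) : One p t w u P H where
  act := h.act
  faith := h.faith
  primes := ⟨h.primes.1, h.primes.2.2, h.primes.2.1⟩
  ne := ⟨h.ne.2.1, h.ne.1, h.ne.2.2.symm⟩
  support r hr hd := (h.support r hr hd).imp id Or.symm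
  pairs := ⟨h.pairs.2.1, h.pairs.1, by
    obtain ⟨a, ha, b, hb, h1, h2, h3⟩ := h.pairs.2.2
    exact ⟨b, hb, a, ha, h2, h1, h3.symm⟩⟩
  two := ⟨h.two.1, h.two.2.2, h.two.2.1⟩
  triple a ha b hb c hc h1 h2 h3 h4 h5 h6 := h.triple a ha c hc b hb h1 h3 h2 h5 h4 h6.symm

theorem rotate (h : One p t u w P H) : One p u w t P H where
  act := h.act
  faith := h.faith
  primes := ⟨h.primes.2.1, h.primes.2.2, h.primes.1⟩
  ne := ⟨h.ne.2.2, h.ne.1.symm, h.ne.2.1.symm⟩
  support r hr hd := by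
    rcases h.support r hr hd with h | h | h
    · exact Or.inr (Or.inr h)
    · exact Or.inl h
    · exact Or.inr (Or.inl h)
  pairs := ⟨h.pairs.2.2, by
    obtain ⟨a, ha, b, hb, h1, h2, h3⟩ := h.pairs.1
    exact ⟨b, hb, a, ha, h2, h1, h3.symm⟩, by
    obtain ⟨a, ha, b, hb, h1, h2, h3⟩ := h.pairs.2.1
    exact ⟨b, hb, a, ha, h2, h1, h3.symm⟩⟩
  two := ⟨h.two.2.1, h.two.2.2, h.two.1⟩
  triple a ha b hb c hc h1 h2 h3 h4 h5 h6 :=
    h.triple c hc a ha b hb h3 h1 h2 h5.symm h6.symm h4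

/-- Hall subgroups for the primes `u`, `w`. -/
theorem exists_hall (h : One p t u w P H) {C K : Subgroup G} (hCH : C ≤ H) (hKC : K ≤ C)
    (hK : ¬ t ∣ Nat.card K) :
    ∃ M : Subgroup G, M ≤ C ∧ K ≤ M ∧ ¬ t ∣ Nat.card M ∧
      (∀ r : ℕ, r.Prime → r ∣ Nat.card M → r = u ∨ r = w) ∧
      (∀ r : ℕ, r.Prime → r ≠ t → ¬ r ∣ M.relIndex C) ∧
      ∀ e ∈ C, ¬ t ∣ orderOf e → ∃ d ∈ C, d * e * d⁻¹ ∈ M := by
  have := Fact.mk h.primes.1
  obtain ⟨k, m, hm, hcard⟩ := Nat.exists_eq_pow_mul_and_not_dvd (n := Nat.card C)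
    Nat.card_pos.ne' t h.primes.1.ne_one
  have hc : Nat.card C = m * t ^ k := by rw [hcard, mul_comm]
  have hcop : m.Coprime (t ^ k) :=
    (h.primes.1.coprime_iff_not_dvd.mpr hm).symm.pow_right k
  obtain ⟨M₀, hM₀⟩ := Core.exists_hall (G := C) hc hcop
  have hconj : ∀ L : Subgroup G, L ≤ C → ¬ t ∣ Nat.card L →
      ∃ d ∈ C, MulAut.conj d • L ≤ M₀.map C.subtype := by
    intro L hL hLt
    obtain ⟨d, hd⟩ := Core.exists_le_conj_hall hc hcop hM₀ (K := L.subgroupOf C) (by
      rw [Coprime.card_subgroupOf hL]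
      exact (h.primes.1.coprime_iff_not_dvd.mpr hLt).symm.pow_right k)
    refine ⟨(d⁻¹ : C), (d⁻¹ : C).2, ?_⟩
    have h1 : MulAut.conj d⁻¹ • L.subgroupOf C ≤ M₀ := by
      rw [map_inv, pointwise_smul_subset_iff, inv_inv]; exact hd
    have h2 := map_mono (f := C.subtype) h1
    rwa [Coprime.map_conj_smul, map_subgroupOf_eq_of_le hL] at h2
  obtain ⟨d, hd, hdK⟩ := hconj K hKC hK
  set M := MulAut.conj d⁻¹ • M₀.map C.subtype with hM
  have hMC : M ≤ C := Coprime.conj_smul_le_self (le_normalizer (C.inv_mem hd)) (map_subtype_le _)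
  have hMcard : Nat.card M = m := by
    rw [hM, Coprime.card_conj_smul, card_map_of_injective C.subtype_injective, hM₀]
  refine ⟨M, hMC, ?_, by rwa [hMcard], fun r hr hrd => ?_, fun r hr hrt hrd => ?_, fun e he het => ?_⟩
  · rw [hM, map_inv]
    exact pointwise_smul_subset_iff.mp hdK
  · rcases h.support r hr (hrd.trans (card_dvd_of_le (hMC.trans hCH))) with rfl | h' | h'
    · exact absurd (hMcard ▸ hrd) hm
    · exact Or.inl h'
    · exact Or.inr h'
  · have hidx : M.relIndex C = t ^ k := by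
      have h1 := (M.subgroupOf C).card_mul_index
      rw [Coprime.card_subgroupOf hMC, hMcard, hc] at h1
      exact Nat.eq_of_mul_eq_mul_left (Nat.pos_of_ne_zero fun (h0 : m = 0) => hm (by rw [h0]; exact dvd_zero t)) h1
    rw [hidx] at hrd
    exact hrt ((Nat.prime_dvd_prime_iff_eq hr h.primes.1).mp (hr.dvd_of_dvd_pow hrd))
  · obtain ⟨d', hd', hle⟩ := hconj (zpowers e) (zpowers_le.mpr he) (by rwa [Nat.card_zpowers])
    refine ⟨d⁻¹ * d', C.mul_mem (C.inv_mem hd) hd', ?_⟩
    have h1 : d' * e * d'⁻¹ ∈ M₀.map C.subtype := hle (by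
      rw [Coprime.conj_smul_eq_map]
      exact ⟨e, mem_zpowers e, rfl⟩)
    rw [hM, Coprime.conj_smul_eq_map]
    exact ⟨_, h1, by simp [mul_assoc]⟩

/-- An element of order `w` whose centraliser in a `u`-group has no element of order `u` acts
fixed-point-freely. -/
theorem fpf_of_no_commute {u : ℕ} (hu : u.Prime) {X : Subgroup G} (hX : IsPGroup u X) {g : G}
    (hno : ∀ x ∈ X, orderOf x = u → ¬ Commute g x) : ∀ x ∈ X, Commute g x → x = 1 := by
  intro x hx hgx
  by_contra hx1
  obtain ⟨k, hk⟩ := exists_pow_orderOf hu hX hx hx1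
  exact hno _ (pow_mem hx k) hk (hgx.pow_right k)

/-- A subgroup with elements of orders `u` and `w`, no commuting pair, none fixing a point,
is impossible. -/
theorem kernel_false (h : One p t u w P H) {M : Subgroup G} (hMH : M ≤ H)
    (hsupp : ∀ r : ℕ, r.Prime → r ∣ Nat.card M → r = u ∨ r = w)
    (hno : ∀ x ∈ M, ∀ y ∈ M, orderOf x = u → orderOf y = w → ¬ Commute x y)
    (hfu : ∀ x ∈ M, orderOf x = u → ¬ Fix P x) (hfw : ∀ x ∈ M, orderOf x = w → ¬ Fix P x)
    {a b : G} (ha : a ∈ M) (hao : orderOf a = u) (hb : b ∈ M) (hbo : orderOf b = w) : False := by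
  have hM : M ≠ ⊥ := fun hM => by
    rw [hM, mem_bot] at ha
    rw [ha, orderOf_one] at hao
    exact h.primes.2.1.ne_one hao.symm
  obtain ⟨r, hr, hrd, hcore⟩ := exists_core_ne_bot hM
  obtain ⟨x, hx, hx1⟩ := (bot_or_exists_ne_one _).resolve_left hcore
  have hne : ∀ y ∈ core r M, y ≠ 1 → ∃ v ∈ P, ¬ Commute y v := fun y hy hy1 => by
    by_contra hcon
    push Not at hcon
    exact hy1 (h.faith y (hMH (core_le r M hy)) hcon)
  rcases hsupp r hr hrd with rfl | rfl
  · exact hfw b hb hbo (h.act.move h.primes.2.1 h.primes.2.2 (hMH hb) hbo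
      ((core_le r M).trans hMH) (isPGroup_core r M) (le_normalizer_core r M hb)
      (fpf_of_no_commute h.primes.2.1 (isPGroup_core r M) fun y hy hyo hc =>
        hno y (core_le r M hy) b hb hyo hbo hc.symm) ⟨x, hx, hne x hx hx1⟩)
  · exact hfu a ha hao (h.act.move h.primes.2.2 h.primes.2.1 (hMH ha) hao
      ((core_le r M).trans hMH) (isPGroup_core r M) (le_normalizer_core r M ha)
      (fpf_of_no_commute h.primes.2.2 (isPGroup_core r M) fun y hy hyo hc =>
        hno a ha y (core_le r M hy) hao hyo hc) ⟨x, hx, hne x hx hx1⟩)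

end One

end Cfsg.Agent.FourPrimes
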