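import Cfsg.Agent.FixedPointFree.Prime
import Cfsg.Agent.Core.PCore
import Cfsg.Agent.Core.Fitting
import Cfsg.Agent.Core.Hall
import Cfsg.Agent.Fusion.PGroup
import Cfsg.Agent.Fusion.UniqueInvolution
import Cfsg.Prelude.Def_Transfer

/-!
Group-theoretic tools for the four primes criterion.
-/

set_option autoImplicit false
set_option linter.unusedSectionVars false

namespace Cfsg.Agent.FourPrimes

open Subgroup
open scoped commutatorElement Pointwise

universe u

variable {G : Type u} [Group G] [Finite G]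

/-- An elementary abelian subgroup of order `r ^ 2`. -/
structure TwoRank (E : Subgroup G) (r : ℕ) : Prop where
  comm : IsMulCommutative E
  pow_eq_one : ∀ x ∈ E, x ^ r = 1
  card_eq : Nat.card E = r ^ 2

theorem TwoRank.orderOf_eq {E : Subgroup G} {r : ℕ} (hE : TwoRank E r) (hr : r.Prime) {x : G}
    (hx : x ∈ E) (hx1 : x ≠ 1) : orderOf x = r :=
  orderOf_eq_prime (hp := ⟨hr⟩) (hE.pow_eq_one x hx) hx1

theorem TwoRank.commute {E : Subgroup G} {r : ℕ} (hE : TwoRank E r) {x y : G} (hx : x ∈ E)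
    (hy : y ∈ E) : Commute x y :=
  have := hE.comm
  setLike_mul_comm hx hy

theorem TwoRank.not_isCyclic {E : Subgroup G} {r : ℕ} (hE : TwoRank E r) (hr : r.Prime) :
    ¬ IsCyclic E := by
  intro h
  obtain ⟨g, hg⟩ := h.exists_generator
  have h1 : orderOf g = Nat.card E := orderOf_eq_card_of_forall_mem_zpowers hg
  have h2 : orderOf g ∣ r := orderOf_dvd_of_pow_eq_one (Subtype.ext (hE.pow_eq_one _ g.2))
  have h3 := Nat.le_of_dvd hr.pos h2
  rw [h1, hE.card_eq] at h3
  nlinarith [hr.two_le]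

theorem TwoRank.isPGroup {E : Subgroup G} {r : ℕ} (hE : TwoRank E r) : IsPGroup r E :=
  IsPGroup.of_card hE.card_eq

theorem TwoRank.map {E : Subgroup G} {r : ℕ} (hE : TwoRank E r) (g : G) :
    TwoRank (E.map (MulAut.conj g).toMonoidHom) r := by
  refine ⟨⟨⟨fun a b => ?_⟩⟩, ?_, ?_⟩
  · obtain ⟨x, hx, hxa⟩ := a.2
    obtain ⟨y, hy, hyb⟩ := b.2
    refine Subtype.ext ?_
    change (a : G) * b = b * a
    rw [← hxa, ← hyb, ← map_mul, ← map_mul, (hE.commute hx hy).eq]
  · rintro _ ⟨x, hx, rfl⟩
    rw [← map_pow, hE.pow_eq_one x hx, map_one]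
  · rw [card_map_of_injective (MulAut.conj g).injective, hE.card_eq]

/-- Two independent commuting elements of order `r`. -/
theorem twoRank_of_pair {r : ℕ} (hr : r.Prime) {x c : G} (hx : orderOf x = r) (hc : orderOf c = r)
    (hxc : Commute x c) (hne : x ∉ zpowers c) :
    TwoRank (zpowers x ⊔ zpowers c) r := by
  have := Fact.mk hr
  have hle : zpowers x ≤ centralizer (zpowers c : Set G) := by
    rw [zpowers_le, FixedPointFree.centralizer_zpowers, mem_centralizer_singleton_iff]
    exact hxc.eq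
  have hn : zpowers x ≤ normalizer (zpowers c : Set G) :=
    hle.trans (centralizer_le_normalizer _)
  have hmem : ∀ y ∈ zpowers x ⊔ zpowers c, ∃ i j : ℤ, y = x ^ i * c ^ j := by
    intro y hy
    rw [sup_comm] at hy
    obtain ⟨b, hb, a, ha, rfl⟩ := (Coprime.mem_sup_of_le_normalizer hn).mp hy
    obtain ⟨i, rfl⟩ := mem_zpowers_iff.mp ha
    obtain ⟨j, rfl⟩ := mem_zpowers_iff.mp hb
    exact ⟨i, j, (hxc.zpow_zpow i j).eq.symm⟩
  refine ⟨⟨⟨fun a b => ?_⟩⟩, ?_, ?_⟩
  · obtain ⟨i, j, hij⟩ := hmem a a.2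
    obtain ⟨i', j', hij'⟩ := hmem b b.2
    refine Subtype.ext ?_
    change (a : G) * b = b * a
    rw [hij, hij']
    have h1 : Commute (x ^ i * c ^ j) (x ^ i' * c ^ j') := by
      have e1 : Commute (x ^ i) (c ^ j') := (hxc.zpow_zpow i j')
      have e2 : Commute (c ^ j) (x ^ i') := (hxc.symm.zpow_zpow j i')
      exact ((Commute.zpow_zpow_self x i i').mul_right e1).mul_left
        (e2.mul_right (Commute.zpow_zpow_self c j j'))
    exact h1.eq
  · intro y hy
    obtain ⟨i, j, rfl⟩ := hmem y hy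
    rw [(hxc.zpow_zpow i j).mul_pow, ← zpow_natCast, ← zpow_mul, mul_comm i, zpow_mul,
      zpow_natCast, ← zpow_natCast (c ^ j), ← zpow_mul, mul_comm j, zpow_mul, zpow_natCast, ← hx,
      pow_orderOf_eq_one, one_zpow, hx, ← hc, pow_orderOf_eq_one, one_zpow, one_mul]
  · have hd : zpowers x ⊓ zpowers c = ⊥ := by
      rcases (Nat.dvd_prime hr).mp ((card_dvd_of_le (inf_le_left :
        zpowers x ⊓ zpowers c ≤ zpowers x)).trans (by rw [Nat.card_zpowers, hx])) with h | h
      · exact card_eq_one.mp h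
      · refine absurd (inf_eq_left.mp (eq_of_le_of_card_ge inf_le_left ?_) (mem_zpowers x)) hne
        rw [h, Nat.card_zpowers, hx]
    rw [sup_comm, Coprime.card_sup_eq_mul hn (by rwa [inf_comm]), Nat.card_zpowers, Nat.card_zpowers,
      hx, hc, sq]

/-- In a `r`-subgroup with central element `c` of order `r`: either all elements of order `r` are
powers of `c` or there is a two-rank subgroup containing `c`. -/
theorem twoRank_or_unique {r : ℕ} (hr : r.Prime) {S : Subgroup G} {c : G} (hc : c ∈ S)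
    (hcr : orderOf c = r) (hcen : ∀ y ∈ S, Commute c y) :
    (∃ E : Subgroup G, E ≤ S ∧ c ∈ E ∧ TwoRank E r) ∨
      ∀ x ∈ S, orderOf x = r → x ∈ zpowers c := by
  by_cases h : ∃ x ∈ S, orderOf x = r ∧ x ∉ zpowers c
  · obtain ⟨x, hxS, hx, hxc⟩ := h
    exact Or.inl ⟨_, sup_le (zpowers_le.mpr hxS) (zpowers_le.mpr hc),
      mem_sup_right (mem_zpowers c), twoRank_of_pair hr hx hcr (hcen x hxS).symm hxc⟩
  · push Not at h
    exact Or.inr h

theorem exists_central_orderOf {r : ℕ} (hr : r.Prime) {S : Subgroup G} (hS : IsPGroup r S)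
    {N : Subgroup G} (hNS : N ≤ S) (hSN : S ≤ normalizer (N : Set G)) (hN : N ≠ ⊥) :
    ∃ c ∈ N, orderOf c = r ∧ ∀ y ∈ S, Commute c y := by
  have := Fact.mk hr
  have hn : (N.subgroupOf S).Normal := (normal_subgroupOf_iff_le_normalizer hNS).mpr hSN
  have hne : N.subgroupOf S ≠ ⊥ := fun h => hN (by
    rw [← map_subgroupOf_eq_of_le hNS, h, Subgroup.map_bot])
  obtain ⟨Z, hZN, hZc, -, hZ⟩ := Fusion.exists_central_card_prime hS (N.subgroupOf S) hne
  obtain ⟨z, hz⟩ := exists_prime_orderOf_dvd_card' (G := Z) r (hZ ▸ dvd_rfl)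
  refine ⟨((z : S) : G), hZN z.2, by rw [orderOf_coe, Subgroup.orderOf_coe, hz], fun y hy => ?_⟩
  exact (congrArg Subtype.val (mem_center_iff.mp (hZc z.2) ⟨y, hy⟩)).symm

theorem mul_conj_mem_zpowers {r : ℕ} (hr : r.Prime) {c y g : G} (hc : orderOf c = r)
    (hy : orderOf y = r) (h : g * y * g⁻¹ ∈ zpowers c) :
    (zpowers y).map (MulAut.conj g).toMonoidHom = zpowers c := by
  refine eq_of_le_of_card_ge ?_ ?_
  · rw [MonoidHom.map_zpowers]
    exact zpowers_le.mpr h
  · rw [card_map_of_injective (MulAut.conj g).injective, Nat.card_zpowers, Nat.card_zpowers, hc, hy]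

/-- Either a two-rank subgroup, or all subgroups of order `r` of `K` are conjugate in `K`. -/
theorem twoRank_or_conj {r : ℕ} (hr : r.Prime) (K : Subgroup G) :
    (∃ E : Subgroup G, E ≤ K ∧ TwoRank E r) ∨
      ∀ x ∈ K, ∀ y ∈ K, orderOf x = r → orderOf y = r → ∃ k ∈ K, k * x * k⁻¹ ∈ zpowers y := by
  have := Fact.mk hr
  by_cases hdvd : r ∣ Nat.card K
  · obtain ⟨S⟩ : Nonempty (Sylow r K) := inferInstance
    set S' := (S : Subgroup K).map K.subtype with hS'
    have hS'K : S' ≤ K := map_subtype_le _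
    have hS'p : IsPGroup r S' := S.2.map _
    have hS'1 : S' ≠ ⊥ := fun h => S.ne_bot_of_dvd_card hdvd
      ((map_eq_bot_iff_of_injective _ K.subtype_injective).mp h)
    obtain ⟨c, hcS, hcr, hcc⟩ := exists_central_orderOf hr hS'p le_rfl le_normalizer hS'1
    rcases twoRank_or_unique hr hcS hcr hcc with ⟨E, hES, -, hE⟩ | h
    · exact Or.inl ⟨E, hES.trans hS'K, hE⟩
    · refine Or.inr fun x hx y hy hxr hyr => ?_
      have key : ∀ x ∈ K, orderOf x = r → ∃ k ∈ K, k * x * k⁻¹ ∈ zpowers c := by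
        intro x hx hxr
        obtain ⟨T, hT⟩ := (IsPGroup.of_card (p := r) (n := 1)
          (by rw [Nat.card_zpowers, orderOf_mk, hxr, pow_one]) :
          IsPGroup r (zpowers (⟨x, hx⟩ : K))).exists_le_sylow
        obtain ⟨k, hk⟩ := MulAction.exists_smul_eq K T S
        refine ⟨(k : G), k.2, h _ ?_ ?_⟩
        · refine ⟨k * ⟨x, hx⟩ * k⁻¹, ?_, rfl⟩
          rw [← hk]
          change _ ∈ MulAut.conj k • (T : Subgroup K)
          exact mem_map_of_mem _ (hT (mem_zpowers _))
        · rw [← MulAut.conj_apply, ← MulEquiv.coe_toMonoidHom,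
            orderOf_injective _ (MulAut.conj (k : G)).injective, hxr]
      obtain ⟨k, hk, hkx⟩ := key x hx hxr
      obtain ⟨l, hl, hly⟩ := key y hy hyr
      refine ⟨l⁻¹ * k, K.mul_mem (K.inv_mem hl) hk, ?_⟩
      rw [← mul_conj_mem_zpowers hr hcr hyr hly] at hkx
      obtain ⟨w, hw, hwe⟩ := hkx
      have e : l⁻¹ * k * x * (l⁻¹ * k)⁻¹ = w := by
        have hwe' : l * w * l⁻¹ = k * x * k⁻¹ := hwe
        calc l⁻¹ * k * x * (l⁻¹ * k)⁻¹ = l⁻¹ * (k * x * k⁻¹) * l := by group
          _ = w := by rw [← hwe']; group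
      rw [e]; exact hw
  · exact Or.inr fun x hx y hy hxr _ => absurd
      (hxr ▸ Subgroup.orderOf_dvd_natCard K hx) hdvd

/-- A noncyclic group acting coprimely on a nontrivial group: some element has a fixed point. -/
theorem exists_fixed {r : ℕ} (hr : r.Prime) {E K : Subgroup G} (hE : TwoRank E r)
    (hEK : E ≤ normalizer (K : Set G)) (hK : K ≠ ⊥) (hcop : r.Coprime (Nat.card K)) :
    ∃ f ∈ E, f ≠ 1 ∧ orderOf f = r ∧ ∃ v ∈ K, v ≠ 1 ∧ Commute f v := by
  have := hE.comm
  by_contra hcon
  push Not at hcon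
  refine hK (le_bot_iff.mp ?_)
  rw [← Coprime.iSup_centralizer_eq (A := E) (hE.not_isCyclic hr) hEK
    (by rw [hE.card_eq]; exact hcop.pow_left 2)]
  refine iSup₂_le fun f hf v hv => mem_bot.mpr ?_
  by_contra hv1
  exact hcon f hf.1 hf.2 (hE.orderOf_eq hr hf.1 hf.2) v hv.1 hv1
    (mem_centralizer_singleton_iff.mp hv.2).symm

/-- An abelian noncyclic group acting on a group of prime order has a nontrivial element in the
centraliser. -/
theorem exists_fixed_line {r t : ℕ} (hr : r.Prime) (ht : t.Prime) {E : Subgroup G}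
    (hE : TwoRank E r) {z : G} (hz : orderOf z = t)
    (hEz : E ≤ normalizer (zpowers z : Set G)) :
    ∃ f ∈ E, f ≠ 1 ∧ orderOf f = r ∧ Commute f z := by
  have := Fact.mk ht
  have hcz : Nat.card (zpowers z) = t := by rw [Nat.card_zpowers, hz]
  let φ : E →* MulAut (zpowers z) := (zpowers z).normalizerMonoidHom.comp (inclusion hEz)
  by_contra hcon
  push Not at hcon
  have hinj : Function.Injective φ := (injective_iff_map_eq_one φ).mpr fun f hf => by
    by_contra hf1
    refine hcon f f.2 (fun h => hf1 (Subtype.ext h))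
      (hE.orderOf_eq hr f.2 fun h => hf1 (Subtype.ext h)) ?_
    have h2 := congrArg Subtype.val
      (DFunLike.congr_fun hf (⟨z, mem_zpowers z⟩ : zpowers z))
    exact mul_inv_eq_iff_eq_mul.mp h2
  have hcyc : IsCyclic (MulAut (zpowers z)) := by
    have h1 : IsCyclic (ZMod (Nat.card (zpowers z)))ˣ := by rw [hcz]; infer_instance
    exact isCyclic_of_surjective (IsCyclic.mulAutMulEquiv (zpowers z)).symm.toMonoidHom
      (IsCyclic.mulAutMulEquiv (zpowers z)).symm.surjective
  exact hE.not_isCyclic hr (isCyclic_of_injective φ hinj)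

/-- If an element of prime order `w` normalises without centralising a group of prime order `u`,
then `w` divides `u - 1`. -/
theorem dvd_pred_of_moves {u w : ℕ} (hu : u.Prime) (hw : w.Prime) {x f : G}
    (hx : orderOf x = u) (hf : orderOf f = w) (hfx : f ∈ normalizer (zpowers x : Set G))
    (hne : ¬ Commute f x) : w ∣ u - 1 := by
  have := Fact.mk hu
  have := Fact.mk hw
  let φ : MulAut (zpowers x) := (zpowers x).normalizerMonoidHom ⟨f, hfx⟩
  have hφ1 : φ ≠ 1 := fun h => hne (by
    have h2 := congrArg Subtype.val (DFunLike.congr_fun h (⟨x, mem_zpowers x⟩ : zpowers x))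
    exact mul_inv_eq_iff_eq_mul.mp h2)
  have hφw : orderOf φ = w := by
    refine orderOf_eq_prime ?_ hφ1
    rw [← map_pow, show (⟨f, hfx⟩ : normalizer (zpowers x : Set G)) ^ w = 1 from
      Subtype.ext (by simp [← hf, pow_orderOf_eq_one]), map_one]
  have h := orderOf_dvd_natCard φ
  rw [hφw, IsCyclic.card_mulAut, Nat.card_zpowers, hx, Nat.totient_prime hu] at h
  exact h

/-- An element of prime order not dividing `u - 1` centralises a normalised group of order `u`. -/
theorem commute_of_not_dvd {u w : ℕ} (hu : u.Prime) (hw : w.Prime) {x f : G}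
    (hx : orderOf x = u) (hf : orderOf f = w) (hfx : f ∈ normalizer (zpowers x : Set G))
    (hlt : u ≤ w) : Commute f x := by
  by_contra h
  have h1 := Nat.le_of_dvd (by have := hu.two_le; omega) (dvd_pred_of_moves hu hw hx hf hfx h)
  have := hu.pos
  omega

/-- Commutators centralise normalised cyclic subgroups. -/
theorem commutator_commute_of_cyclic {K : Subgroup G} (hK : IsCyclic K) {a b : G}
    (ha : a ∈ normalizer (K : Set G)) (hb : b ∈ normalizer (K : Set G)) {k : G} (hk : k ∈ K) :
    Commute ⁅a, b⁆ k := by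
  let φ := K.normalizerMonoidHom
  have hab : φ ⁅(⟨a, ha⟩ : normalizer (K : Set G)), ⟨b, hb⟩⁆ = 1 := by
    rw [map_commutatorElement, commutatorElement_eq_one_iff_commute]
    let e := IsCyclic.mulAutMulEquiv K
    refine e.injective ?_
    rw [map_mul, map_mul, mul_comm]
  have h2 := congrArg Subtype.val (DFunLike.congr_fun hab ⟨k, hk⟩)
  exact mul_inv_eq_iff_eq_mul.mp h2

/-- The `t`-core of a subgroup, as a subgroup of the whole group. -/
def core (t : ℕ) (K : Subgroup G) : Subgroup G := (Cfsg.pCore t K).map K.subtype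

theorem core_le (t : ℕ) (K : Subgroup G) : core t K ≤ K := map_subtype_le _

theorem isPGroup_core (t : ℕ) (K : Subgroup G) : IsPGroup t (core t K) :=
  Core.pCore_isPGroup.map _

theorem le_normalizer_core (t : ℕ) (K : Subgroup G) :
    K ≤ normalizer (core t K : Set G) := by
  refine (normal_subgroupOf_iff_le_normalizer (core_le t K)).mp ?_
  have : (core t K).subgroupOf K = Cfsg.pCore t K :=
    comap_map_eq_self_of_injective K.subtype_injective _
  rw [this]
  infer_instance

theorem le_core {t : ℕ} {K N : Subgroup G} (hN : IsPGroup t N) (hNK : N ≤ K)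
    (hKN : K ≤ normalizer (N : Set G)) : N ≤ core t K := by
  have hn : (N.subgroupOf K).Normal := (normal_subgroupOf_iff_le_normalizer hNK).mpr hKN
  have h := @Core.le_pCore _ _ t (N.subgroupOf K) hn
    (hN.comap_of_injective K.subtype K.subtype_injective)
  rw [← map_subgroupOf_eq_of_le hNK]
  exact map_mono h

/-- A nontrivial solvable group has a nontrivial core. -/
theorem exists_core_ne_bot [Group.IsSolvable G] {K : Subgroup G} (hK : K ≠ ⊥) :
    ∃ t : ℕ, t.Prime ∧ t ∣ Nat.card K ∧ core t K ≠ ⊥ := by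
  have : Nontrivial K := (nontrivial_iff_ne_bot K).mpr hK
  have h := Core.fittingSubgroup_ne_bot (G := K)
  rw [Core.fittingSubgroup_eq_iSup_pCore] at h
  simp only [ne_eq, iSup_eq_bot, not_forall] at h
  obtain ⟨⟨t, ht⟩, htne⟩ := h
  have := Fact.mk ht
  refine ⟨t, ht, ?_, fun h => htne ((map_eq_bot_iff_of_injective _ K.subtype_injective).mp h)⟩
  exact (((Core.pCore_isPGroup (p := t) (G := K)).card_eq_or_dvd).resolve_left
    fun h => htne (card_eq_one.mp h)).trans (card_subgroup_dvd_card _)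

/-- An element centralising all cores of a solvable group lies in the Fitting subgroup. -/
theorem mem_fitting_of_commute [Group.IsSolvable G] {K : Subgroup G} {x : G} (hx : x ∈ K)
    (h : ∀ t : ℕ, t.Prime → ∀ y ∈ core t K, Commute x y) :
    (⟨x, hx⟩ : K) ∈ Cfsg.fittingSubgroup K := by
  refine Core.centralizer_fittingSubgroup_le ?_
  rw [Core.fittingSubgroup_eq_iSup_pCore, iSup_eq_closure, centralizer_closure,
    mem_centralizer_iff]
  rintro y hy
  obtain ⟨⟨t, ht⟩, hyt⟩ := Set.mem_iUnion.mp hy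
  exact Subtype.ext (h t ht _ (mem_map_of_mem _ hyt)).symm

/-- A prime power element centralising all cores lies in its core. -/
theorem mem_core_of_commute [Group.IsSolvable G] {K : Subgroup G} {u n : ℕ} [Fact u.Prime] {x : G}
    (hx : x ∈ K) (hxu : x ^ u ^ n = 1)
    (h : ∀ t : ℕ, t.Prime → ∀ y ∈ core t K, Commute x y) : x ∈ core u K := by
  have hF := Core.fittingSubgroup_isNilpotent (G := K)
  set F := Cfsg.fittingSubgroup K with hFdef
  have hxF := mem_fitting_of_commute hx h
  obtain ⟨m, -, hm⟩ := (Nat.dvd_prime_pow (Fact.out : u.Prime)).mp (orderOf_dvd_of_pow_eq_one hxu)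
  obtain ⟨S, hS⟩ := (IsPGroup.of_card (p := u) (n := m) (by
    rw [Nat.card_zpowers, orderOf_mk, orderOf_mk, hm]) :
      IsPGroup u (zpowers (⟨⟨x, hx⟩, hxF⟩ : F))).exists_le_sylow
  have hSn : (S : Subgroup F).Normal :=
    (Group.isNilpotent_of_finite_tfae.out 0 3 rfl rfl).mp hF u inferInstance S
  have hSc : (S : Subgroup F).Characteristic := S.characteristic_of_normal hSn
  have hn : ((S : Subgroup F).map F.subtype).Normal :=
    ConjAct.normal_of_characteristic_of_normal
  exact ⟨⟨x, hx⟩, Core.le_pCore (S.2.map _) (mem_map_of_mem F.subtype (hS (mem_zpowers _))), rfl⟩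

/-- If a `{u, w}`-group has no normal `w`-subgroup its `u`-core contains its centraliser. -/
theorem centralizer_core_le [Group.IsSolvable G] {K : Subgroup G} {u w : ℕ} (hu : u.Prime)
    (hK : ∀ r : ℕ, r.Prime → r ∣ Nat.card K → r = u ∨ r = w) (hw : core w K = ⊥) {x : G}
    (hx : x ∈ K) (h : ∀ y ∈ core u K, Commute x y) : x ∈ core u K := by
  have := Fact.mk hu
  have hall : ∀ t : ℕ, t.Prime → t ≠ u → core t K = ⊥ := by
    intro t ht htu
    have := Fact.mk ht
    by_contra hne
    have hd : t ∣ Nat.card K :=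
      (((isPGroup_core t K).card_eq_or_dvd).resolve_left fun h => hne (card_eq_one.mp h)).trans
        (card_dvd_of_le (core_le t K))
    rcases hK t ht hd with rfl | rfl
    · exact htu rfl
    · exact hne hw
  have hall' : ∀ t : ℕ, t.Prime → ∀ y ∈ core t K, Commute x y := by
    intro t ht y hy
    rcases eq_or_ne t u with rfl | htu
    · exact h y hy
    · rw [hall t ht htu, mem_bot] at hy
      subst hy
      exact Commute.one_right x
  have hxF := mem_fitting_of_commute hx hall'
  have hle : Cfsg.fittingSubgroup K ≤ Cfsg.pCore u K := by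
    rw [Core.fittingSubgroup_eq_iSup_pCore]
    refine iSup_le fun ⟨t, ht⟩ => ?_
    rcases eq_or_ne t u with rfl | htu
    · exact le_rfl
    · rw [(map_eq_bot_iff_of_injective _ K.subtype_injective).mp (hall t ht htu)]
      exact bot_le
  exact ⟨⟨x, hx⟩, hle hxF, rfl⟩

end Cfsg.Agent.FourPrimes
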