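import Cfsg.Agent.FourPrimes.Act

/-!
The case of the four primes criterion in which the Fitting subgroup involves two primes.
-/

set_option autoImplicit false
set_option linter.unusedSectionVars false

namespace Cfsg.Agent.FourPrimes

open Subgroup
open scoped commutatorElement

universe u

variable {G : Type u} [Group G] [Finite G]

theorem le_normalizer_core_of_le {H K : Subgroup G} (hHK : H ≤ normalizer (K : Set G)) (t : ℕ) :
    H ≤ normalizer (core t K : Set G) := fun h hh => by
  refine Coprime.mem_normalizer_of_conj_smul_eq (eq_of_le_of_card_ge ?_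
    (by rw [Coprime.card_conj_smul]))
  refine le_core ?_ ?_ ?_
  · rw [Coprime.conj_smul_eq_map]; exact (isPGroup_core t K).map _
  · rw [Coprime.conj_smul_eq_map]
    refine (map_mono (core_le t K)).trans ?_
    rw [← Coprime.conj_smul_eq_map, Coprime.conj_smul_eq_self_of_mem_normalizer (hHK hh)]
  · intro k hk
    have hk' : h⁻¹ * k * h ∈ K := by
      have := (mem_normalizer_iff.mp (hHK (H.inv_mem hh)) k).mp hk
      simpa using this
    have h2 := le_normalizer_core t K hk'
    refine mem_normalizer_iff.mpr fun y => ?_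
    simp only [Coprime.conj_smul_eq_map, mem_map_equiv, MulAut.conj_symm_apply]
    rw [show h⁻¹ * (k * y * k⁻¹) * h = (h⁻¹ * k * h) * (h⁻¹ * y * h) * (h⁻¹ * k * h)⁻¹ by group]
    exact mem_normalizer_iff.mp h2 _

/-- The subgroup of central elements of exponent `s` of a subgroup. -/
def omegaCenter (s : ℕ) (K : Subgroup G) : Subgroup G where
  carrier := {x | x ∈ K ∧ (∀ y ∈ K, Commute x y) ∧ x ^ s = 1}
  one_mem' := ⟨K.one_mem, fun y _ => Commute.one_left y, one_pow s⟩
  mul_mem' := fun {a b} ha hb => ⟨K.mul_mem ha.1 hb.1,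
    fun y hy => (ha.2.1 y hy).mul_left (hb.2.1 y hy),
    by rw [(ha.2.1 b hb.1).mul_pow, ha.2.2, hb.2.2, one_mul]⟩
  inv_mem' := fun {a} ha => ⟨K.inv_mem ha.1, fun y hy => (ha.2.1 y hy).inv_left,
    by rw [inv_pow, ha.2.2, inv_one]⟩

theorem mem_omegaCenter {s : ℕ} {K : Subgroup G} {x : G} :
    x ∈ omegaCenter s K ↔ x ∈ K ∧ (∀ y ∈ K, Commute x y) ∧ x ^ s = 1 := Iff.rfl

theorem omegaCenter_le (s : ℕ) (K : Subgroup G) : omegaCenter s K ≤ K := fun _ hx => hx.1

theorem omegaCenter_comm (s : ℕ) (K : Subgroup G) : IsMulCommutative (omegaCenter s K) :=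
  ⟨⟨fun a b => Subtype.ext (a.2.2.1 b b.2.1).eq⟩⟩

theorem le_normalizer_omegaCenter {H : Subgroup G} {s : ℕ} {K : Subgroup G}
    (hHK : H ≤ normalizer (K : Set G)) : H ≤ normalizer (omegaCenter s K : Set G) := by
  have key : ∀ h ∈ H, ∀ x ∈ omegaCenter s K, h * x * h⁻¹ ∈ omegaCenter s K := by
    intro h hh x hx
    refine ⟨(mem_normalizer_iff.mp (hHK hh) x).mp hx.1, fun y hy => ?_, by
      rw [conj_pow, hx.2.2, mul_one, mul_inv_cancel]⟩
    have hy' : h⁻¹ * y * h ∈ K := by
      simpa using (mem_normalizer_iff.mp (hHK (H.inv_mem hh)) y).mp hy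
    have h1 := (Commute.conj_iff h).mpr (hx.2.1 _ hy')
    simpa [mul_assoc] using h1
  intro h hh
  refine mem_normalizer_iff.mpr fun x => ⟨key h hh x, fun hx => ?_⟩
  simpa [mul_assoc] using key h⁻¹ (H.inv_mem hh) _ hx

/-- Commuting with the elements of order `s` gives commuting with a cyclic `s`-group. -/
theorem commute_of_cyclic {s : ℕ} [Fact s.Prime] {Y : Subgroup G} (hY : IsPGroup s Y)
    (hYc : IsCyclic Y) {e : G} (hcop : (orderOf e).Coprime s)
    (heY : e ∈ normalizer (Y : Set G)) (h : ∀ y ∈ Y, orderOf y = s → Commute e y) :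
    ∀ y ∈ Y, Commute e y := by
  have : IsMulCommutative Y := IsCyclic.isMulCommutative
  have heY' : zpowers e ≤ normalizer (Y : Set G) := zpowers_le.mpr heY
  have hcop' : (Nat.card (zpowers e)).Coprime (Nat.card Y) := by
    obtain ⟨n, hn⟩ := hY.exists_card_eq
    rw [Nat.card_zpowers, hn]
    exact hcop.pow_right n
  have hle := Coprime.commutator_le_of_le_normalizer heY'
  have hbot := Coprime.centralizer_inf_commutator_eq_bot heY' hcop'
  have hX : ⁅Y, zpowers e⁆ = ⊥ := by
    by_contra hne
    obtain ⟨c, hc, hcs, -⟩ :=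
      exists_central_orderOf (Fact.out : s.Prime) (hY.to_le hle) le_rfl le_normalizer hne
    have h1 : c ∈ (Y ⊓ centralizer (zpowers e : Set G)) ⊓ ⁅Y, zpowers e⁆ := by
      refine ⟨⟨hle hc, ?_⟩, hc⟩
      rw [FixedPointFree.centralizer_zpowers]
      exact mem_centralizer_singleton_iff.mpr (h c (hle hc) hcs).symm.eq
    rw [hbot, mem_bot] at h1
    rw [h1, orderOf_one] at hcs
    exact (Fact.out : s.Prime).ne_one hcs.symm
  intro y hy
  exact (commutatorElement_eq_one_iff_commute.mp
    (mem_bot.mp (hX ▸ commutator_mem_commutator hy (mem_zpowers e)))).symm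

/-- A noncentral element of order `r` in an `r`-group yields a commutator `⁅x, a⁆` of order `r`
commuting with `x` and `a`. -/
theorem exists_commutator_pair {r : ℕ} (hr : r.Prime) {R : Subgroup G} (hR : IsPGroup r R) {a₀ : G}
    (ha₀ : a₀ ∈ R) (har : orderOf a₀ = r) (hnc : ∃ y ∈ R, ¬ Commute a₀ y) :
    ∃ a ∈ R, ∃ x ∈ R, orderOf a = r ∧ orderOf ⁅x, a⁆ = r ∧ Commute a ⁅x, a⁆ ∧ Commute x ⁅x, a⁆ := by
  classical
  have := Fact.mk hr
  have := hR.isNilpotent
  have : Nonempty {a : R // orderOf a = r ∧ a ∉ center R} :=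
    ⟨⟨⟨a₀, ha₀⟩, by rw [orderOf_mk]; exact har, fun h => by
      obtain ⟨y, hy, hy'⟩ := hnc
      exact hy' (congrArg Subtype.val (mem_center_iff.mp h ⟨y, hy⟩)).symm⟩⟩
  obtain ⟨⟨a₁, ha₁⟩, hmax⟩ := Finite.exists_max
    (fun a : {a : R // orderOf a = r ∧ a ∉ center R} => Nat.card (centralizer ({(a : R)} : Set R)))
  set C := centralizer ({a₁} : Set R) with hC
  have hCt : C < ⊤ := lt_top_iff_ne_top.mpr fun h => ha₁.2 (mem_center_iff.mpr fun y =>
    mem_centralizer_singleton_iff.mp (hC ▸ h.symm ▸ mem_top y : y ∈ centralizer ({a₁} : Set R)))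
  obtain ⟨x, hxN, hxC⟩ := SetLike.exists_of_lt
    (Group.normalizerCondition_of_isNilpotent (G := R) C hCt)
  let T : Set R := {b | b ∈ C ∧ b ^ r = 1 ∧ ∀ y ∈ C, Commute b y}
  have ha₁T : a₁ ∈ T := ⟨mem_centralizer_singleton_iff.mpr rfl, by rw [← ha₁.1, pow_orderOf_eq_one],
    fun y hy => (mem_centralizer_singleton_iff.mp hy).symm⟩
  have hstep : ∀ b ∈ T, ⁅x, b⁆ ∈ T := by
    rintro b ⟨hbC, hbr, hbc⟩
    have h1 : x * b * x⁻¹ ∈ C := (mem_normalizer_iff.mp hxN b).mp hbC
    have h2 : ∀ y ∈ C, Commute (x * b * x⁻¹) y := fun y hy => by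
      have hy' : x⁻¹ * y * x ∈ C := by
        refine (mem_normalizer_iff.mp hxN _).mpr ?_
        simpa [mul_assoc] using hy
      simpa [mul_assoc] using (Commute.conj_iff x).mpr (hbc _ hy')
    rw [commutatorElement_def]
    refine ⟨C.mul_mem h1 (C.inv_mem hbC), ?_, fun y hy => (h2 y hy).mul_left (hbc y hy).inv_left⟩
    rw [((h2 b hbC).inv_right).mul_pow, conj_pow, hbr, mul_one, mul_inv_cancel, one_mul,
      inv_pow, hbr, inv_one]
  obtain ⟨n, hn⟩ := (Subgroup.isNilpotent_iff_lowerCentralSeries (⊤ : Subgroup R)).mp (Group.nilpotent_of_mulEquiv topEquiv.symm)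
  let P : ℕ → Prop := fun k => ∃ b ∈ T, b ∉ center R ∧ b ∈ (⊤ : Subgroup R).lowerCentralSeries k
  have hP0 : P 0 := ⟨a₁, ha₁T, ha₁.2, by simp⟩
  set k := Nat.findGreatest P n with hk
  have hPk : P k := Nat.findGreatest_spec (Nat.zero_le n) hP0
  obtain ⟨b, hbT, hbc, hbk⟩ := hPk
  have hkn : k < n := lt_of_le_of_ne (Nat.findGreatest_le n) fun h => hbc (by
    rw [h, hn, mem_bot] at hbk
    rw [hbk]; exact one_mem _)
  have hb1 : b ≠ 1 := fun h => hbc (h ▸ one_mem _)
  have hbo : orderOf b = r := orderOf_eq_prime hbT.2.1 hb1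
  have hcc : ⁅x, b⁆ ∈ center R := by
    by_contra hcc
    refine Nat.findGreatest_is_greatest (n := n) (k := k + 1) (Nat.lt_succ_self k) hkn
      ⟨⁅x, b⁆, hstep b hbT, hcc, ?_⟩
    rw [Subgroup.lowerCentralSeries_succ, ← commutatorElement_inv]
    exact inv_mem (commutator_mem_commutator hbk (mem_top x))
  have hc1 : ⁅x, b⁆ ≠ 1 := by
    intro h
    have hlt : C < centralizer ({b} : Set R) := by
      refine lt_of_le_of_ne (fun y hy => mem_centralizer_singleton_iff.mpr (hbT.2.2 y hy).symm.eq)
        fun he => hxC ?_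
      rw [he]
      exact mem_centralizer_singleton_iff.mpr (commutatorElement_eq_one_iff_commute.mp h).eq
    exact absurd (hmax ⟨b, hbo, hbc⟩) (not_le.mpr (Core.card_lt_of_lt hlt))
  refine ⟨b, b.2, x, x.2, by rw [orderOf_coe, hbo], ?_, ?_, ?_⟩
  · have := orderOf_eq_prime (hstep b hbT).2.1 hc1
    rw [← orderOf_coe] at this
    exact this
  · exact congrArg Subtype.val (mem_center_iff.mp hcc b)
  · exact congrArg Subtype.val (mem_center_iff.mp hcc x)

variable [Group.IsSolvable G]

/-- The two-prime case. -/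
theorem two_false {p q r s : ℕ} {P Q H : Subgroup G} (haP : Act p P H) (haQ : Act q Q H)
    (hr : r.Prime) (hs : s.Prime) (hrs : r ≠ s)
    (hH : ∀ t : ℕ, t.Prime → t ∣ Nat.card H → t = r ∨ t = s)
    (both : ∀ x ∈ H, (orderOf x).Prime → Fix P x → Fix Q x → False)
    (hPQ : ∀ x ∈ H, (∀ v ∈ P, Commute x v) → (∀ v ∈ Q, Commute x v) → x = 1)
    (hr2 : ∃ E : Subgroup G, E ≤ H ∧ TwoRank E r) (hs2 : ∃ E : Subgroup G, E ≤ H ∧ TwoRank E s) :
    False := by
  have := Fact.mk hr
  have := Fact.mk hs
  -- `H` acts faithfully on each of `P`, `Q`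
  have hfaith : ∀ {p q : ℕ} {P Q : Subgroup G}, Act p P H → Act q Q H →
      (∀ x ∈ H, (orderOf x).Prime → Fix P x → Fix Q x → False) →
      (∀ x ∈ H, (∀ v ∈ P, Commute x v) → (∀ v ∈ Q, Commute x v) → x = 1) →
      ∀ x ∈ H, (∀ v ∈ P, Commute x v) → x = 1 := by
    intro p q P Q haP haQ both hPQ x hx hxv
    set K := H ⊓ centralizer (P : Set G) with hK
    by_contra hx1
    have hK1 : K ≠ ⊥ := fun h => hx1 (mem_bot.mp (h ▸ (⟨hx, mem_centralizer_iff.mpr fun v hv =>
      (hxv v hv).symm.eq⟩ : x ∈ K)))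
    obtain ⟨t, ht, htK, hM⟩ := exists_core_ne_bot hK1
    have hHC : H ≤ normalizer (centralizer (P : Set G) : Set G) := fun h hh => by
      refine mem_normalizer_iff.mpr fun y => ⟨fun hy => ?_, fun hy => ?_⟩
      · refine mem_centralizer_iff.mpr fun v hv => ?_
        have h1 : h⁻¹ * v * h ∈ P := by
          simpa using (mem_normalizer_iff.mp (haP.norm (H.inv_mem hh)) v).mp hv
        have := (Commute.conj_iff h).mpr (mem_centralizer_iff.mp hy _ h1 : Commute _ _)
        simpa [mul_assoc] using this.eq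
      · refine mem_centralizer_iff.mpr fun v hv => ?_
        have := (Commute.conj_iff h⁻¹).mpr
          (mem_centralizer_iff.mp hy _ ((mem_normalizer_iff.mp (haP.norm hh) v).mp hv) : Commute _ _)
        simpa [mul_assoc] using this.eq
    have hHK : H ≤ normalizer (K : Set G) := fun h hh => by
      refine mem_normalizer_iff.mpr fun y => ?_
      rw [hK, mem_inf, mem_inf, ← mem_normalizer_iff.mp (le_normalizer hh) y,
        ← mem_normalizer_iff.mp (hHC hh) y]
    set M := core t K
    have hMH : M ≤ H := (core_le t K).trans inf_le_left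
    obtain ⟨u, hu, hut, E, hEH, hE⟩ : ∃ u : ℕ, u.Prime ∧ u ≠ t ∧ ∃ E : Subgroup G, E ≤ H ∧
        TwoRank E u := by
      rcases hH t ht (htK.trans (card_dvd_of_le inf_le_left)) with rfl | rfl
      · exact ⟨s, hs, hrs.symm, hs2⟩
      · exact ⟨r, hr, hrs, hr2⟩
    obtain ⟨f, hfE, -, hfu, hf⟩ := haP.exists_fix hu hEH hE
    have hfM : f ∈ normalizer (M : Set G) := le_normalizer_core_of_le hHK t (hEH hfE)
    have hfpf : ∀ y ∈ M, Commute f y → y = 1 := by
      intro y hy hfy
      by_contra hy1
      obtain ⟨v, hv, hv1, hfv⟩ := hf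
      have := Fact.mk ht
      obtain ⟨k, hk⟩ := (isPGroup_core t K).exists_card_eq
      obtain ⟨m, -, hm⟩ := (Nat.dvd_prime_pow ht).mp (hk ▸ Subgroup.orderOf_dvd_natCard M hy)
      have hm0 : m ≠ 0 := fun h => hy1 (orderOf_eq_one_iff.mp (by rw [hm, h, pow_zero]))
      have hyo : orderOf (y ^ t ^ (m - 1)) = t := by
        rw [orderOf_pow_of_dvd (pow_ne_zero _ ht.pos.ne') (by rw [hm]; exact pow_dvd_pow t (Nat.sub_le m 1)), hm,
          Nat.pow_div (Nat.sub_le m 1) ht.pos, Nat.sub_sub_self (by omega), pow_one]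
      refine hv1 (haP.free f (hEH hfE) _ (pow_mem (hMH hy) _) (hfu ▸ hu) (hyo ▸ ht)
        (by rw [hfu, hyo]; exact hut) (hfy.pow_right _) v hv hfv ?_)
      exact (show Commute y v from (mem_centralizer_iff.mp (core_le t K hy).2 v hv).symm).pow_left _
    refine both f (hEH hfE) (hfu ▸ hu) hf
      (haQ.move ht hu (hEH hfE) hfu hMH (isPGroup_core t K) hfM hfpf ?_)
    by_contra hcon
    push Not at hcon
    obtain ⟨y, hy, hy1⟩ := (bot_or_exists_ne_one M).resolve_left hM
    exact hy1 (hPQ y (hMH hy) (fun v hv => (mem_centralizer_iff.mp (core_le t K hy).2 v hv :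
      Commute v y).symm) (fun v hv => hcon y hy v hv))
  have hP := hfaith haP haQ both hPQ
  have hQ := hfaith haQ haP (fun x hx ho h1 h2 => both x hx ho h2 h1)
    (fun x hx h1 h2 => hPQ x hx h2 h1)
  -- elements of prime order are central in the `t`-subgroups containing them
  have hcentral : ∀ t : ℕ, t.Prime → ∀ R : Subgroup G, R ≤ H → IsPGroup t R → ∀ a ∈ R,
      orderOf a = t → ∀ y ∈ R, Commute a y := by
    intro t ht R hRH hR a₀ ha₀ hao
    by_contra hcon
    push Not at hcon
    obtain ⟨a, ha, x, hx, hat, hct, hac, hxc⟩ := exists_commutator_pair ht hR ha₀ hao hcon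
    set c := ⁅x, a⁆ with hc
    have hcR : c ∈ R := by
      rw [hc, commutatorElement_def]
      exact R.mul_mem (R.mul_mem (R.mul_mem hx ha) (R.inv_mem hx)) (R.inv_mem ha)
    have hacne : a ∉ zpowers c := by
      intro h
      obtain ⟨i, hi⟩ := mem_zpowers_iff.mp h
      have h1 : c = 1 := by
        rw [hc, commutatorElement_eq_one_iff_commute, ← hi]
        exact hxc.zpow_right i
      rw [h1, orderOf_one] at hct
      exact ht.ne_one hct.symm
    have hE := twoRank_of_pair ht hat hct hac hacne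
    set E := zpowers a ⊔ zpowers c
    have hEH : E ≤ H := sup_le (zpowers_le.mpr (hRH ha)) (zpowers_le.mpr (hRH hcR))
    have key : ∀ {p : ℕ} {P : Subgroup G}, Act p P H →
        (∀ y ∈ H, (∀ v ∈ P, Commute y v) → y = 1) → Fix P a := by
      intro p P haP hP
      by_contra hfa
      have hall : ∀ f ∈ E, f ≠ 1 → ∀ v ∈ P, Commute f v → Commute c v := by
        intro f hf hf1 v hv hfv
        rcases eq_or_ne v 1 with rfl | hv1
        · exact Commute.one_right c
        by_cases hfc : f ∈ zpowers c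
        · have hcf : zpowers f = zpowers c := eq_of_le_of_card_ge (zpowers_le.mpr hfc) (by
            rw [Nat.card_zpowers, Nat.card_zpowers, hct, hE.orderOf_eq ht hf hf1])
          obtain ⟨i, hi⟩ := mem_zpowers_iff.mp (hcf ▸ mem_zpowers c : c ∈ zpowers f)
          exact hi ▸ hfv.zpow_left i
        · exfalso
          have hn : zpowers a ≤ normalizer (zpowers c : Set G) := zpowers_le.mpr
            (centralizer_le_normalizer _ (by
              rw [FixedPointFree.centralizer_zpowers]
              exact mem_centralizer_singleton_iff.mpr hac.eq))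
          have hf' : f ∈ zpowers c ⊔ zpowers a := by rw [sup_comm]; exact hf
          obtain ⟨b, hb, b', hb', rfl⟩ := (Coprime.mem_sup_of_le_normalizer hn).mp hf'
          obtain ⟨j, rfl⟩ := mem_powers_iff_mem_zpowers.mpr hb
          obtain ⟨i, rfl⟩ := mem_powers_iff_mem_zpowers.mpr hb'
          simp only at hf hf1 hfv hfc
          have hi : ¬ t ∣ i := fun h => hfc (by
            obtain ⟨l, rfl⟩ := h
            rw [pow_mul, ← hat, pow_orderOf_eq_one, one_pow, mul_one]
            exact pow_mem (mem_zpowers c) j)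
          obtain ⟨k, hk⟩ := Nat.exists_mul_mod_eq_one_of_coprime
            ((ht.coprime_iff_not_dvd.mpr hi).symm) ht.one_lt
          have hak : a ^ (i * k) = a := by
            rw [← pow_mod_orderOf, hat, hk.2, pow_one]
          have h1 : (c ^ j * a ^ i) ^ k = c ^ (j * k) * a := by
            rw [((hac.symm).pow_pow j i).mul_pow, ← pow_mul, ← pow_mul, hak]
          have hconj : ∀ m : ℕ, x ^ m * a * (x ^ m)⁻¹ = c ^ m * a := by
            intro m
            induction m with
            | zero => simp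
            | succ m ih =>
              calc x ^ (m + 1) * a * (x ^ (m + 1))⁻¹ = x * (x ^ m * a * (x ^ m)⁻¹) * x⁻¹ := by
                    rw [pow_succ']; group
                _ = (x * c ^ m) * a * x⁻¹ := by rw [ih]; group
                _ = c ^ m * (x * a * x⁻¹) := by rw [(hxc.pow_right m).eq]; group
                _ = c ^ m * (c * a) := by rw [hc, commutatorElement_def]; group
                _ = c ^ (m + 1) * a := by rw [pow_succ]; group
          have h2 : Fix P ((c ^ j * a ^ i) ^ k) := fix_pow ⟨v, hv, hv1, hfv⟩ k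
          rw [h1, ← hconj (j * k)] at h2
          have h3 := fix_conj (P := P) (c := (x ^ (j * k))⁻¹)
            (haP.norm (H.inv_mem (pow_mem (hRH hx) _))) h2
          refine hfa ?_
          convert h3 using 1
          group
      have := hE.comm
      have hcv : P ≤ centralizer ({c} : Set G) := by
        rw [← Coprime.iSup_centralizer_eq (A := E) (K := P) (hE.not_isCyclic ht)
          (hEH.trans haP.norm) (haP.coprime hEH)]
        refine iSup₂_le fun f hf v hv => mem_centralizer_singleton_iff.mpr ?_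
        exact (hall f hf.1 hf.2 v hv.1 (mem_centralizer_singleton_iff.mp hv.2).symm).symm.eq
      have := hP c (hRH hcR) fun v hv => (mem_centralizer_singleton_iff.mp (hcv hv)).symm
      rw [this, orderOf_one] at hct
      exact ht.ne_one hct.symm
    exact both a (hRH ha) (hat ▸ ht) (key haP hP) (key haQ hQ)
  have hnormC : ∀ t : ℕ, H ≤ normalizer (core t H : Set G) := fun t => le_normalizer_core t H
  have hY : ∀ t u : ℕ, t.Prime → u.Prime → u ≠ t → ∀ e ∈ H, orderOf e = u →
      ∀ y ∈ core t H, orderOf y = t → Commute e y := by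
    intro t u ht hu hut e heH he y hy hyo
    have := omegaCenter_comm t (core t H)
    have hyY : y ∈ omegaCenter t (core t H) := ⟨hy,
      hcentral t ht _ (core_le t H) (isPGroup_core t H) y hy hyo, hyo ▸ pow_orderOf_eq_one y⟩
    by_contra hne
    have hAH : omegaCenter t (core t H) ≤ H := (omegaCenter_le _ _).trans (core_le t H)
    have hmv : ∀ {p : ℕ} {P : Subgroup G}, Act p P H →
        (∀ y ∈ H, (∀ v ∈ P, Commute y v) → y = 1) → Fix P e := fun haP hP =>
      haP.move_abelian ht hu hut.symm heH he hAH ((isPGroup_core t H).to_le (omegaCenter_le _ _))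
        (le_normalizer_omegaCenter (hnormC t) heH) ⟨y, hyY, hne⟩
        (fun z hz h => hP z (hAH hz) h)
    exact both e heH (he ▸ hu) (hmv haP hP) (hmv haQ hQ)
  have hno : ∀ t u : ℕ, t.Prime → u.Prime → u ≠ t → (∃ E : Subgroup G, E ≤ H ∧ TwoRank E u) →
      ∀ E' : Subgroup G, E' ≤ core t H → ¬ TwoRank E' t := by
    intro t u ht hu hut ⟨E, hEH, hE⟩ E' hE'c hE'
    obtain ⟨f, hfE, -, hfu, hf⟩ := haP.exists_fix hu hEH hE
    refine haP.not_fix_of_twoRank ht hu hut (hEH hfE) hfu (hE'c.trans (core_le t H)) hE'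
      (fun y hy => ?_) hf
    rcases eq_or_ne y 1 with rfl | hy1
    · exact Commute.one_left f
    · exact (hY t u ht hu hut f (hEH hfE) hfu y (hE'c hy) (hE'.orderOf_eq ht hy hy1)).symm
  -- conclusion
  have main : ∀ r s : ℕ, r.Prime → s.Prime → r ≠ s → s ≠ 2 →
      (∀ t : ℕ, t.Prime → t ∣ Nat.card H → t = r ∨ t = s) →
      (∃ E : Subgroup G, E ≤ H ∧ TwoRank E r) → (∃ E : Subgroup G, E ≤ H ∧ TwoRank E s) →
      False := by
    intro r s hr hs hrs hs2' hH hr2 hs2
    have := Fact.mk hr
    have := Fact.mk hs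
    obtain ⟨E, hEH, hE⟩ := hr2
    have hcyc : IsCyclic (core s H) := by
      refine (Fusion.cyclic_or_quaternion_of_unique (isPGroup_core s H) fun A B hA hB => ?_).resolve_right
        fun h => hs2' h.1
      by_contra hAB
      obtain ⟨a, ha⟩ := exists_prime_orderOf_dvd_card' (G := A) s (dvd_of_eq hA.symm)
      obtain ⟨b, hb⟩ := exists_prime_orderOf_dvd_card' (G := B) s (dvd_of_eq hB.symm)
      have hgen : ∀ (A : Subgroup (core s H)) (a : A), Nat.card A = s → orderOf a = s →
          zpowers (a : core s H) = A := fun A a hA ha =>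
        eq_of_le_of_card_ge (zpowers_le.mpr a.2)
          (by rw [Nat.card_zpowers, Subgroup.orderOf_coe, ha, hA])
      have hab : ((a : core s H) : G) ∉ zpowers (((b : core s H)) : G) := by
        intro h
        obtain ⟨i, hi⟩ := mem_zpowers_iff.mp h
        apply hAB
        rw [← hgen A a hA ha, ← hgen B b hB hb]
        refine eq_of_le_of_card_ge (zpowers_le.mpr (mem_zpowers_iff.mpr ⟨i, Subtype.ext hi⟩)) ?_
        rw [Nat.card_zpowers, Nat.card_zpowers, Subgroup.orderOf_coe, Subgroup.orderOf_coe, ha, hb]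
      refine hno s r hs hr hrs ⟨E, hEH, hE⟩ _ ?_ (twoRank_of_pair hs
        (by rw [orderOf_coe, Subgroup.orderOf_coe, ha]) (by rw [orderOf_coe, Subgroup.orderOf_coe, hb])
        (hcentral s hs _ (core_le s H) (isPGroup_core s H) _ (a : core s H).2
          (by rw [orderOf_coe, Subgroup.orderOf_coe, ha]) _ (b : core s H).2) hab)
      exact sup_le (zpowers_le.mpr (a : core s H).2) (zpowers_le.mpr (b : core s H).2)
    refine hno r s hr hs hrs.symm hs2 E (fun e he => ?_) hE
    rcases eq_or_ne e 1 with rfl | he1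
    · exact one_mem _
    have heo := hE.orderOf_eq hr he he1
    refine mem_core_of_commute (hEH he) (n := 1) (by rw [pow_one]; exact hE.pow_eq_one e he)
      fun t ht y hy => ?_
    by_cases htr : t = r
    · subst htr
      have hsup : IsPGroup t (core t H ⊔ zpowers e : Subgroup G) :=
        (isPGroup_core t H).to_sup_of_normal_left'
          (IsPGroup.of_card (n := 1) (by rw [Nat.card_zpowers, heo, pow_one]))
          (zpowers_le.mpr (hnormC t (hEH he)))
      exact hcentral t ht _ (sup_le (core_le t H) (zpowers_le.mpr (hEH he))) hsup e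
        (mem_sup_right (mem_zpowers e)) heo y (mem_sup_left hy)
    by_cases hts : t = s
    · subst hts
      exact commute_of_cyclic (isPGroup_core t H) hcyc
        (by rw [heo]; exact (Nat.coprime_primes hr ht).mpr hrs) (hnormC t (hEH he))
        (fun y hy hyo => hY t r ht hr hrs e (hEH he) heo y hy hyo) y hy
    · have := Fact.mk ht
      have hbot : core t H = ⊥ := by
        by_contra hne
        rcases hH t ht ((((isPGroup_core t H).card_eq_or_dvd).resolve_left
          fun h => hne (card_eq_one.mp h)).trans (card_dvd_of_le (core_le t H))) with h | h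
        · exact htr h
        · exact hts h
      rw [hbot, mem_bot] at hy
      subst hy
      exact Commute.one_right e
  rcases eq_or_ne s 2 with rfl | hs2'
  · exact main 2 r hs hr hrs.symm hrs (fun t ht h => (hH t ht h).symm) hs2 hr2
  · exact main r s hr hs hrs hs2' hH hr2 hs2

end Cfsg.Agent.FourPrimes
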